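import Groth.Agent.GeomComp.Fibres

/-!
# Level sets of the geometric component counts
-/

set_option autoImplicit false
set_option backward.isDefEq.respectTransparency false

universe u

open CategoryTheory CategoryTheory.Limits AlgebraicGeometry Topology

namespace Groth.Agent.GeomComp

/-- A property constant near each point in its closure, in a Noetherian spectrum, pulls back to a constructible set. -/
theorem isConstructible_of_model {A₀ A : Type u} [CommRing A₀] [CommRing A] [IsNoetherianRing A₀] [Algebra A₀ A]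
    (E : Set (PrimeSpectrum A))
    (H : ∀ P : PrimeSpectrum A₀, ∃ a : A₀, a ∉ P.asIdeal ∧ ∀ y y' : PrimeSpectrum A,
      P.asIdeal ≤ y.asIdeal.comap (algebraMap A₀ A) → algebraMap A₀ A a ∉ y.asIdeal →
      P.asIdeal ≤ y'.asIdeal.comap (algebraMap A₀ A) → algebraMap A₀ A a ∉ y'.asIdeal → (y ∈ E ↔ y' ∈ E)) :
    IsConstructible E := by
  classical
  let π : PrimeSpectrum A → PrimeSpectrum A₀ := PrimeSpectrum.comap (algebraMap A₀ A)
  suffices h : ∀ Z : TopologicalSpace.Closeds (PrimeSpectrum A₀), IsConstructible (E ∩ π ⁻¹' Z) by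
    simpa using h ⊤
  intro Z
  induction Z using WellFoundedLT.induction with
  | _ Z ih =>
    have hcz : ∀ Z' : TopologicalSpace.Closeds (PrimeSpectrum A₀), IsConstructible (π ⁻¹' (Z' : Set _)) := fun Z' => by
      exact (Spec.map (CommRingCat.ofHom (algebraMap A₀ A))).isConstructible_preimage
        (s := (Z' : Set (PrimeSpectrum A₀)))
        (isConstructible_compl.1 (IsRetrocompact.isConstructible Z'.isClosed.isOpen_compl
          (fun _ _ _ => TopologicalSpace.NoetherianSpace.isCompact _)))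
    by_cases hne : (Z : Set (PrimeSpectrum A₀)).Nonempty
    swap
    · rw [Set.not_nonempty_iff_eq_empty] at hne
      rw [hne, Set.preimage_empty, Set.inter_empty]
      exact .empty
    by_cases hirr : IsPreirreducible (Z : Set (PrimeSpectrum A₀))
    · obtain ⟨P, hP⟩ : ∃ P, IsGenericPoint P (Z : Set (PrimeSpectrum A₀)) :=
        QuasiSober.sober ⟨hne, hirr⟩ Z.isClosed
      obtain ⟨a, ha, hE⟩ := H P
      let Z' : TopologicalSpace.Closeds (PrimeSpectrum A₀) :=
        ⟨(Z : Set _) ∩ PrimeSpectrum.zeroLocus {a}, Z.isClosed.inter (PrimeSpectrum.isClosed_zeroLocus _)⟩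
      have hlt : Z' < Z := lt_of_le_of_ne (fun x hx => hx.1) fun h => ha
        (((PrimeSpectrum.mem_zeroLocus _ _).1 ((SetLike.ext_iff.1 h P).2 hP.mem).2) rfl)
      have hsplit : E ∩ π ⁻¹' Z = (E ∩ π ⁻¹' Z') ∪ (E ∩ (π ⁻¹' Z \ π ⁻¹' Z')) := by
        ext y; constructor
        · rintro ⟨h1, h2⟩
          by_cases h : y ∈ π ⁻¹' (Z' : Set _)
          · exact Or.inl ⟨h1, h⟩
          · exact Or.inr ⟨h1, h2, h⟩
        · rintro (⟨h1, h2⟩ | ⟨h1, h2, -⟩)
          · exact ⟨h1, h2.1⟩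
          · exact ⟨h1, h2⟩
      rw [hsplit]
      refine (ih Z' hlt).union ?_
      have hmem : ∀ y ∈ π ⁻¹' (Z : Set _) \ π ⁻¹' (Z' : Set _),
          P.asIdeal ≤ y.asIdeal.comap (algebraMap A₀ A) ∧ algebraMap A₀ A a ∉ y.asIdeal := fun y hy => by
        refine ⟨(PrimeSpectrum.le_iff_specializes P (π y)).2 (hP.specializes hy.1), fun h => hy.2 ⟨hy.1, ?_⟩⟩
        exact (PrimeSpectrum.mem_zeroLocus _ _).2 (Set.singleton_subset_iff.2 h)
      by_cases hy : ∃ y ∈ π ⁻¹' (Z : Set _) \ π ⁻¹' (Z' : Set _), y ∈ E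
      · obtain ⟨y₀, hy₀, hyE⟩ := hy
        rw [Set.inter_eq_right.2 fun y hy => (hE y₀ y (hmem y₀ hy₀).1 (hmem y₀ hy₀).2 (hmem y hy).1 (hmem y hy).2).1 hyE]
        exact (hcz Z).inter (hcz Z').compl
      · push Not at hy
        rw [Set.eq_empty_of_forall_notMem fun y (hy' : y ∈ E ∩ _) => hy y hy'.2 hy'.1]
        exact .empty
    · simp only [isPreirreducible_iff_isClosed_union_isClosed, not_forall, not_or] at hirr
      obtain ⟨u, v, hu, hv, huv, hnu, hnv⟩ := hirr
      let Zu : TopologicalSpace.Closeds (PrimeSpectrum A₀) := ⟨(Z : Set _) ∩ u, Z.isClosed.inter hu⟩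
      let Zv : TopologicalSpace.Closeds (PrimeSpectrum A₀) := ⟨(Z : Set _) ∩ v, Z.isClosed.inter hv⟩
      have h : E ∩ π ⁻¹' Z = (E ∩ π ⁻¹' Zu) ∪ (E ∩ π ⁻¹' Zv) := by
        ext y; constructor
        · rintro ⟨h1, h2⟩
          exact (huv h2).imp (fun h => ⟨h1, h2, h⟩) fun h => ⟨h1, h2, h⟩
        · rintro (⟨h1, h2, -⟩ | ⟨h1, h2, -⟩) <;> exact ⟨h1, h2⟩
      rw [h]
      exact (ih Zu (lt_of_le_of_ne (fun x hx => hx.1) fun h => hnu fun x hx => ((SetLike.ext_iff.1 h x).2 hx).2)).union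
        (ih Zv (lt_of_le_of_ne (fun x hx => hx.1) fun h => hnv fun x hx => ((SetLike.ext_iff.1 h x).2 hx).2))

/-- Level sets of a function of both counts are locally constructible. -/
theorem isLocallyConstructible_counts {X Y : Scheme.{u}} (f : X ⟶ Y) [LocallyOfFinitePresentation f] [QuasiCompact f]
    [QuasiSeparated f] (S : Set (ℕ∞ × ℕ∞)) :
    IsLocallyConstructible {y : Y | (MoreMor.nGeomIrredComp f y, MoreMor.nGeomConnComp f y) ∈ S} := by
  classical
  refine IsLocallyConstructible.of_isOpenCover (U := fun U : Y.affineOpens => U.1)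
    (iSup_affineOpens_eq_top Y) fun U => ?_
  let c := U.2.fromSpec
  let f' := pullback.snd f c
  obtain ⟨A₀, _, _, _, H⟩ := exists_model_const f'
  let E : Set (PrimeSpectrum Γ(Y, U.1)) :=
    {y | (MoreMor.nGeomIrredComp f' y, MoreMor.nGeomConnComp f' y) ∈ S}
  have hE : IsConstructible E := isConstructible_of_model (A₀ := A₀) E fun P => by
    obtain ⟨a, n, m, ha, h⟩ := H P
    refine ⟨a, ha, fun y y' h1 h2 h3 h4 => ?_⟩
    obtain ⟨e1, e2⟩ := h y h1 h2
    obtain ⟨e3, e4⟩ := h y' h3 h4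
    show _ ∈ S ↔ _ ∈ S
    rw [e1, e2, e3, e4]
  have hc : ∀ y, c.base y ∈ U.1 := fun y => U.2.range_fromSpec.le ⟨y, rfl⟩
  let ψ : Spec Γ(Y, U.1) ≅ (U.1 : Scheme.{u}) := U.2.isoSpec.symm
  have hψ : IsLocallyConstructible (ψ.inv.base ⁻¹' E) :=
    hE.isLocallyConstructible.preimage_of_isOpenEmbedding ψ.inv.isOpenEmbedding
  refine cast (congrArg IsLocallyConstructible ?_) hψ
  ext z
  have hz : c.base (ψ.inv.base z) = z.1 := congr($(U.2.isoSpec_hom_fromSpec) z)
  show (MoreMor.nGeomIrredComp f' _, MoreMor.nGeomConnComp f' _) ∈ S ↔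
    (MoreMor.nGeomIrredComp f z.1, MoreMor.nGeomConnComp f z.1) ∈ S
  rw [nGeomIrredComp_baseChange (IsPullback.of_hasPullback f c), nGeomConnComp_baseChange (IsPullback.of_hasPullback f c), hz]

end Groth.Agent.GeomComp
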