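import Groth.Agent.GeomCount.Compose
import Groth.Agent.GeomIrr.Components

/-!
# Counting geometric components with any separably closed field
-/

set_option autoImplicit false
set_option backward.isDefEq.respectTransparency false
set_option linter.style.haveILetI false

universe u

open CategoryTheory Limits AlgebraicGeometry Groth.Agent.FieldExtConn

namespace Groth.Agent.GeomComp

/-- The number of irreducible components. -/
noncomputable abbrev nIrr (S : Scheme.{u}) : ℕ∞ := (irreducibleComponents (↥S)).encard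

/-- The number of connected components. -/
noncomputable abbrev nConn (S : Scheme.{u}) : ℕ∞ := ENat.card (_root_.ConnectedComponents ↥S)

theorem nIrr_congr {S T : Scheme.{u}} (m : S ⟶ T) [GeometricallyIrreducible m] [Surjective m] (hm : IsOpenMap m) :
    nIrr S = nIrr T :=
  Set.encard_congr (m.irreducibleComponentsEquiv hm)

theorem nIrr_iso {S T : Scheme.{u}} (e : S ≅ T) : nIrr S = nIrr T :=
  Set.encard_congr (irreducibleComponentsEquivOfIsPreirreducibleFiber e.hom e.hom.continuous
    e.hom.isOpenEmbedding.isOpenMap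
    (fun _ => ((Set.subsingleton_singleton.preimage e.hom.isOpenEmbedding.injective)).isPreirreducible)
    e.hom.surjective).symm.toEquiv

theorem nGeomIrredComp_eq {X Y : Scheme.{u}} (f : X ⟶ Y) (y : Y) :
    MoreMor.nGeomIrredComp f y = nIrr (pullback f (GeomCount.sepPt y)) :=
  nIrr_iso (pullbackLeftPullbackSndIso f (Y.fromSpecResidueField y)
    (Spec.map (CommRingCat.ofHom (algebraMap (Y.residueField y) (SeparableClosure (Y.residueField y))))))

/-- A geometric point sees the geometric components. -/
theorem count_pt {X Y : Scheme.{u}} (f : X ⟶ Y) {K : Type u} [Field K] [IsSepClosed K]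
    (γ : Spec (CommRingCat.of K) ⟶ Y) (p : Spec (CommRingCat.of K)) :
    nIrr (pullback f γ) = MoreMor.nGeomIrredComp f (γ.base p) ∧
      nConn (pullback f γ) = MoreMor.nGeomConnComp f (γ.base p) := by
  obtain ⟨y, φ, rfl⟩ : ∃ (y : Y) (φ : Y.residueField y ⟶ CommRingCat.of K),
      γ = Spec.map φ ≫ Y.fromSpecResidueField y :=
    ⟨_, _, ((Scheme.SpecToEquivOfField K Y).left_inv γ).symm⟩
  have hy : (Spec.map φ ≫ Y.fromSpecResidueField y).base p = y := by
    rw [Scheme.Hom.comp_apply, Scheme.fromSpecResidueField_apply]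
  rw [hy, nGeomIrredComp_eq, GeomCount.nGeomConnComp_eq]
  let K₀ := SeparableClosure (Y.residueField y)
  letI : Algebra (Y.residueField y) K := φ.hom.toAlgebra
  let ι : K₀ →ₐ[Y.residueField y] K := IsSepClosed.lift
  letI : Algebra K₀ K := ι.toRingHom.toAlgebra
  let f₀ := pullback.snd f (GeomCount.sepPt y)
  have hsq : Spec.map φ ≫ Y.fromSpecResidueField y = ext K₀ K ≫ GeomCount.sepPt y := by
    simp only [GeomCount.sepPt, ext]
    rw [← Category.assoc, ← Spec.map_comp]
    congr 2
    exact CommRingCat.hom_ext ι.comp_algebraMap.symm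
  let e : pullback f (Spec.map φ ≫ Y.fromSpecResidueField y) ≅ pullback f₀ (ext K₀ K) :=
    pullback.congrHom rfl hsq ≪≫ (pullbackLeftPullbackSndIso f (GeomCount.sepPt y) (ext K₀ K)).symm
  have hg := GeomIrr.geometricallyIrreducible_fst f₀ K
  have hs := GeomIrr.surjective_ext (k := K₀) K
  have ho := GeomIrr.universallyOpen_fst f₀ K
  refine ⟨(nIrr_iso e).trans (nIrr_congr (pullback.fst f₀ (ext K₀ K)) (pullback.fst f₀ (ext K₀ K)).isOpenMap), ?_⟩
  exact (GeomCount.card_components_iso e).trans
    (ENat.card_congr (Equiv.ofBijective _ (GeomIrr.bijective_connectedComponentsMap f₀ K)))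

theorem nGeomIrredComp_baseChange {X Y X' Y' : Scheme.{u}} {f : X ⟶ Y} {f' : X' ⟶ Y'} {g' : X' ⟶ X}
    {g : Y' ⟶ Y} (hc : IsPullback g' f' f g) (y' : Y') :
    MoreMor.nGeomIrredComp f' y' = MoreMor.nGeomIrredComp f (g.base y') := by
  let p : Spec (CommRingCat.of (SeparableClosure (Y'.residueField y'))) := IsLocalRing.closedPoint _
  have h : (GeomCount.sepPt y' ≫ g).base p = g.base y' := by
    rw [Scheme.Hom.comp_apply]
    congr 1
    simp only [GeomCount.sepPt]
    rw [Scheme.Hom.comp_apply]
    exact Scheme.fromSpecResidueField_apply y' _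
  rw [← h, ← (count_pt f (GeomCount.sepPt y' ≫ g) p).1, nGeomIrredComp_eq]
  exact nIrr_iso ((IsPullback.of_hasPullback f' (GeomCount.sepPt y')).paste_horiz hc).isoPullback

theorem nGeomConnComp_baseChange {X Y X' Y' : Scheme.{u}} {f : X ⟶ Y} {f' : X' ⟶ Y'} {g' : X' ⟶ X}
    {g : Y' ⟶ Y} (hc : IsPullback g' f' f g) (y' : Y') :
    MoreMor.nGeomConnComp f' y' = MoreMor.nGeomConnComp f (g.base y') := by
  let p : Spec (CommRingCat.of (SeparableClosure (Y'.residueField y'))) := IsLocalRing.closedPoint _
  have h : (GeomCount.sepPt y' ≫ g).base p = g.base y' := by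
    rw [Scheme.Hom.comp_apply]
    congr 1
    simp only [GeomCount.sepPt]
    rw [Scheme.Hom.comp_apply]
    exact Scheme.fromSpecResidueField_apply y' _
  rw [← h, ← (count_pt f (GeomCount.sepPt y' ≫ g) p).2, GeomCount.nGeomConnComp_eq]
  exact GeomCount.card_components_iso ((IsPullback.of_hasPullback f' (GeomCount.sepPt y')).paste_horiz hc).isoPullback

end Groth.Agent.GeomComp
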