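import Groth.Agent.GeomComp.Fibres
import Groth.Agent.FibreND.Basic

/-!
# Morphisms of finite type over a domain are finitely presented and quasi-separated over a dense open
-/

set_option autoImplicit false
set_option linter.style.haveILetI false
set_option backward.isDefEq.respectTransparency false
set_option maxHeartbeats 1000000
set_option synthInstance.maxHeartbeats 100000

universe u

open CategoryTheory CategoryTheory.Limits AlgebraicGeometry TensorProduct

namespace Groth.Agent.GeomComp

/-- An open subset of the spectrum of a finite type algebra over a domain is compact over a dense open. -/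
theorem exists_compact_inter {A C : Type u} [CommRing A] [IsDomain A] [CommRing C] [Algebra A C]
    [Algebra.FiniteType A C] {O : Set (PrimeSpectrum C)} (hO : IsOpen O) :
    ∃ a : A, a ≠ 0 ∧ ∀ b : A, a ∣ b → IsCompact (O ∩ (PrimeSpectrum.basicOpen (algebraMap A C b) : Set (PrimeSpectrum C))) := by
  classical
  obtain ⟨I, hI⟩ := (PrimeSpectrum.isOpen_iff _).1 hO
  let K := FractionRing A
  haveI : IsNoetherianRing (K ⊗[A] C) := Algebra.FiniteType.isNoetherianRing K _
  let ι : C →+* K ⊗[A] C := (Algebra.TensorProduct.includeRight (R := A) (A := K) (B := C)).toRingHom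
  obtain ⟨t, ht⟩ : ∃ t : Finset C, ↑t ⊆ I ∧ Ideal.span (ι '' I) = Ideal.span (ι '' ↑t) := by
    obtain ⟨T, hT, hTe⟩ := Submodule.fg_span_iff_fg_span_finset_subset (ι '' I) |>.1 (IsNoetherian.noetherian (Ideal.span (ι '' I)))
    obtain ⟨t, htI, htT⟩ := Finset.subset_set_image_iff.1 hT
    exact ⟨t, htI, hTe.trans (by rw [← htT, Finset.coe_image])⟩
  obtain ⟨a, ha, hQ⟩ := FibreND.exists_over_bot A (C ⧸ Ideal.span (↑t : Set C))
  refine ⟨a, ha, fun b hb => ?_⟩
  have : O ∩ (PrimeSpectrum.basicOpen (algebraMap A C b) : Set (PrimeSpectrum C)) =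
      ⋃ c ∈ t, (PrimeSpectrum.basicOpen (c * algebraMap A C b) : Set (PrimeSpectrum C)) := by
    ext P
    simp only [Set.mem_inter_iff, Set.mem_iUnion, SetLike.mem_coe, PrimeSpectrum.mem_basicOpen]
    constructor
    · rintro ⟨hP, hbP⟩
      by_contra hc
      push Not at hc
      have htP : Ideal.span (↑t : Set C) ≤ P.asIdeal := Ideal.span_le.2 fun c hct =>
        ((P.2.mem_or_mem (hc c hct)).resolve_right hbP)
      let π := Ideal.Quotient.mk (Ideal.span (↑t : Set C))
      have hker : RingHom.ker π ≤ P.asIdeal := Ideal.mk_ker.le.trans htP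
      haveI : (P.asIdeal.map π).IsPrime := Ideal.map_isPrime_of_surjective Ideal.Quotient.mk_surjective hker
      have haP : algebraMap A (C ⧸ Ideal.span (↑t : Set C)) a ∉ P.asIdeal.map π := fun h => hbP (by
        have h' : algebraMap A C a ∈ (P.asIdeal.map π).comap π := h
        rw [Ideal.comap_map_of_surjective' _ Ideal.Quotient.mk_surjective, sup_eq_left.2 hker] at h'
        obtain ⟨e, rfl⟩ := hb
        rw [map_mul]
        exact Ideal.mul_mem_right _ _ h')
      obtain ⟨Q', hQ', hle, hbot⟩ := hQ _ inferInstance haP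
      let Q : Ideal C := Q'.comap π
      haveI : Q.IsPrime := hQ'.comap π
      have hQP : Q ≤ P.asIdeal := by
        refine (Ideal.comap_mono hle).trans ?_
        rw [Ideal.comap_map_of_surjective' _ Ideal.Quotient.mk_surjective, sup_eq_left.2 hker]
      have hQbot : Q.comap (algebraMap A C) = ⊥ := by
        rw [← hbot]; rfl
      have hinj : Function.Injective (algebraMap A Q.ResidueField) := by
        rw [injective_iff_map_eq_zero]
        intro x hx
        rw [IsScalarTower.algebraMap_apply A C Q.ResidueField, Ideal.algebraMap_residueField_eq_zero] at hx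
        exact (Ideal.mem_bot).1 (hQbot.le hx)
      let κ : K →ₐ[A] Q.ResidueField := IsFractionRing.liftAlgHom hinj (g := Algebra.ofId A Q.ResidueField)
      let χ : K ⊗[A] C →ₐ[A] Q.ResidueField :=
        Algebra.TensorProduct.lift κ (IsScalarTower.toAlgHom A C Q.ResidueField) fun _ _ => .all _ _
      have hχ : ∀ c, χ (ι c) = algebraMap C Q.ResidueField c := fun c => by simp [χ, ι]
      have hle' : Ideal.span (ι '' ↑t) ≤ RingHom.ker χ.toRingHom := Ideal.span_le.2 (by
        rintro _ ⟨c, hc, rfl⟩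
        show χ (ι c) = 0
        rw [hχ, Ideal.algebraMap_residueField_eq_zero]
        show π c ∈ Q'
        rw [Ideal.Quotient.eq_zero_iff_mem.2 (Ideal.subset_span hc)]
        exact Q'.zero_mem)
      have hP' : P ∉ PrimeSpectrum.zeroLocus I := by rw [← hI]; exact not_not_intro hP
      obtain ⟨x, hxI, hxP⟩ := Set.not_subset.1 hP'
      refine hxP (hQP (Ideal.algebraMap_residueField_eq_zero.1 ?_))
      rw [← hχ]
      exact hle' (ht.2.le (Ideal.subset_span ⟨x, hxI, rfl⟩))
    · rintro ⟨c, hc, hcb⟩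
      refine ⟨?_, fun h => hcb (Ideal.mul_mem_left _ c h)⟩
      by_contra hP
      exact hcb (Ideal.mul_mem_right _ _ ((hI.le hP) (ht.1 hc)))
  rw [this]
  exact t.finite_toSet.isCompact_biUnion fun c _ => PrimeSpectrum.isCompact_basicOpen _

/-- An open covered by finitely many affines with compact pairwise intersections is quasi-separated. -/
theorem isQuasiSeparated_of_cover {X : Scheme.{u}} {ι : Type u} [Finite ι] (V : ι → X.Opens)
    (hV : ∀ j, IsAffineOpen (V j)) (hc : ∀ j l, IsCompact ((V j : Set X) ∩ V l)) :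
    IsQuasiSeparated (⋃ j, (V j : Set X)) := by
  have key : ∀ (U : Set X), U ⊆ ⋃ j, (V j : Set X) → IsOpen U → IsCompact U → ∀ l, IsCompact (U ∩ V l) := by
    intro U hsub hU hUc l
    have hb : ∀ x ∈ U, ∃ W : X.Opens, IsAffineOpen W ∧ x ∈ W ∧ (W : Set X) ⊆ U ∧ ∃ j, W ≤ V j := fun x hx => by
      obtain ⟨j, hj⟩ := Set.mem_iUnion.1 (hsub hx)
      obtain ⟨W, hW, hxW, hWle⟩ := exists_isAffineOpen_mem_and_subset (U := ⟨U, hU⟩ ⊓ V j) (x := x) ⟨hx, hj⟩
      exact ⟨W, hW, hxW, fun z hz => (hWle hz).1, j, fun z hz => (hWle hz).2⟩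
    choose W hW hxW hWU j hWj using hb
    obtain ⟨s, hs⟩ := hUc.elim_finite_subcover (fun x : U => (W x.1 x.2 : Set X)) (fun x => (W x.1 x.2).2)
      (fun x hx => Set.mem_iUnion.2 ⟨⟨x, hx⟩, hxW x hx⟩)
    have : U ∩ V l = ⋃ x ∈ (↑s : Set U), ((W x.1 x.2 : Set X) ∩ ((V (j x.1 x.2) : Set X) ∩ V l)) := by
      ext z
      simp only [Set.mem_inter_iff, Set.mem_iUnion]
      constructor
      · rintro ⟨hz, hzl⟩
        obtain ⟨x, hx⟩ := Set.mem_iUnion.1 (hs hz)
        obtain ⟨hxs, hzx⟩ := Set.mem_iUnion.1 hx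
        exact ⟨x, hxs, hzx, hWj x.1 x.2 hzx, hzl⟩
      · rintro ⟨x, -, hzx, -, hzl⟩
        exact ⟨hWU x.1 x.2 hzx, hzl⟩
    rw [this]
    exact s.finite_toSet.isCompact_biUnion fun x _ => (hV (j x.1 x.2)).isQuasiSeparated _ _
      (hWj x.1 x.2) (W x.1 x.2).2 (hW x.1 x.2).isCompact Set.inter_subset_left
      ((V _).2.inter (V l).2) (hc _ _)
  intro U₁ U₂ h1 h1o h1c h2 h2o h2c
  have : U₁ ∩ U₂ = ⋃ l, ((U₁ ∩ V l) ∩ (U₂ ∩ V l)) := by
    ext z
    simp only [Set.mem_inter_iff, Set.mem_iUnion]
    constructor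
    · rintro ⟨hz1, hz2⟩
      obtain ⟨l, hl⟩ := Set.mem_iUnion.1 (h1 hz1)
      exact ⟨l, ⟨hz1, hl⟩, hz2, hl⟩
    · rintro ⟨l, ⟨hz1, -⟩, hz2, -⟩
      exact ⟨hz1, hz2⟩
  rw [this]
  exact isCompact_iUnion fun l => (hV l).isQuasiSeparated _ _ Set.inter_subset_right (h1o.inter (V l).2)
    (key U₁ h1 h1o h1c l) Set.inter_subset_right (h2o.inter (V l).2) (key U₂ h2 h2o h2c l)

/-- **Finite type over a domain is finitely presented and quasi-separated over a dense open.** -/
theorem exists_restrict_fp {A : Type u} [CommRing A] [IsDomain A] {X : Scheme.{u}} (f : X ⟶ Spec (CommRingCat.of A))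
    [LocallyOfFiniteType f] [QuasiCompact f] :
    ∃ a : A, a ≠ 0 ∧
      LocallyOfFinitePresentation (pullback.snd f (Spec.map (CommRingCat.ofHom (algebraMap A (Localization.Away a))))) ∧
      QuasiSeparated (pullback.snd f (Spec.map (CommRingCat.ofHom (algebraMap A (Localization.Away a))))) := by
  classical
  haveI : CompactSpace X := QuasiCompact.compactSpace_of_compactSpace f
  let 𝒰 := X.affineCover.finiteSubcover
  haveI : Fintype 𝒰.I₀ := Fintype.ofFinite _
  let U : 𝒰.I₀ → X.Opens := fun j => (𝒰.f j).opensRange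
  have hU : ∀ j, IsAffineOpen (U j) := fun j => isAffineOpen_opensRange _
  let C : 𝒰.I₀ → Type u := fun j => Γ(X, U j)
  let φ : ∀ j, CommRingCat.of A ⟶ Γ(X, U j) := fun j => Spec.preimage ((hU j).fromSpec ≫ f)
  letI : ∀ j, Algebra A (C j) := fun j => (φ j).hom.toAlgebra
  have hφ : ∀ j, Spec.map (φ j) = (hU j).fromSpec ≫ f := fun j => Spec.map_preimage _
  haveI : ∀ j, Algebra.FiniteType A (C j) := fun j => by
    haveI : LocallyOfFiniteType (Spec.map (φ j)) := hφ j ▸ inferInstance
    exact (HasRingHomProperty.Spec_iff (P := @LocallyOfFiniteType)).1 ‹_›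
  choose a₁ ha₁ hfree hfp using fun j => GenFree.exists_algebra_freeAt A (C j)
  choose a₂ ha₂ hcpt using fun (p : 𝒰.I₀ × 𝒰.I₀) => exists_compact_inter (A := A) (C := C p.1)
    (O := (hU p.1).fromSpec.base ⁻¹' (U p.2 : Set X)) ((U p.2).2.preimage (hU p.1).fromSpec.continuous)
  let a := (∏ j, a₁ j) * ∏ p, a₂ p
  have ha : a ≠ 0 := mul_ne_zero (Finset.prod_ne_zero_iff.2 fun j _ => ha₁ j) (Finset.prod_ne_zero_iff.2 fun p _ => ha₂ p)
  refine ⟨a, ha, ?_, ?_⟩
  · let g := Spec.map (CommRingCat.ofHom (algebraMap A (Localization.Away a)))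
    refine IsZariskiLocalAtSource.of_openCover (𝒰.pullback₁ (pullback.fst f g)) fun j => ?_
    haveI : Algebra.FinitePresentation (Localization.Away a) (Localization.Away a ⊗[A] C j) :=
      hfp j a (dvd_mul_of_dvd_left (Finset.dvd_prod_of_mem _ (Finset.mem_univ (α := 𝒰.I₀) j)) _)
    have hfp' : LocallyOfFinitePresentation (pullback.snd ((hU j).fromSpec ≫ f) g) := by
      have h := specPullback_snd A (Localization.Away a) (C j) ((hU j).fromSpec ≫ f) (hφ j).symm
      have : LocallyOfFinitePresentation ((specPullback A (Localization.Away a) (C j) ((hU j).fromSpec ≫ f) (hφ j).symm).hom ≫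
          pullback.snd _ _) := by
        rw [h, HasRingHomProperty.Spec_iff (P := @LocallyOfFinitePresentation)]
        exact RingHom.finitePresentation_algebraMap.2 inferInstance
      exact (MorphismProperty.cancel_left_of_respectsIso @LocallyOfFinitePresentation _ _).1 this
    let e : pullback (𝒰.f j ≫ f) g ⟶ pullback ((hU j).fromSpec ≫ f) g :=
      pullback.map _ _ _ _ ((IsOpenImmersion.isoOfRangeEq (𝒰.f j) (hU j).fromSpec (by
        rw [IsAffineOpen.range_fromSpec]; rfl)).hom) (𝟙 _) (𝟙 _)
        (by rw [Category.comp_id, IsOpenImmersion.isoOfRangeEq_hom_fac_assoc]) (by rw [Category.comp_id, Category.id_comp])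
    haveI : IsIso e := inferInstance
    have h2 : LocallyOfFinitePresentation (pullback.snd (𝒰.f j ≫ f) g) := by
      have := (MorphismProperty.cancel_left_of_respectsIso @LocallyOfFinitePresentation e _).2 hfp'
      rwa [pullback.lift_snd, Category.comp_id] at this
    let e' := (pullbackSymmetry (pullback.fst f g) (𝒰.f j)) ≪≫ pullbackRightPullbackFstIso f g (𝒰.f j)
    have := (MorphismProperty.cancel_left_of_respectsIso @LocallyOfFinitePresentation e'.hom _).2 h2
    simp [e', pullback.condition] at this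
    exact this
  · let g := Spec.map (CommRingCat.ofHom (algebraMap A (Localization.Away a)))
    haveI : IsOpenImmersion g := IsOpenImmersion.of_isLocalization a
    haveI : QuasiSeparatedSpace ↥(pullback f g) := by
      rw [← isQuasiSeparated_univ_iff]
      have himg : (pullback.fst f g).base '' Set.univ = f.base ⁻¹' (PrimeSpectrum.basicOpen a : Set (PrimeSpectrum A)) := by
        rw [Set.image_univ, Scheme.Pullback.range_fst]
        congr 1
        exact PrimeSpectrum.localization_away_comap_range (Localization.Away a) a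
      refine (Topology.IsOpenEmbedding.isQuasiSeparated_iff (pullback.fst f g).isOpenEmbedding).2 ?_
      rw [himg]
      let V : 𝒰.I₀ → X.Opens := fun j => U j ⊓ f ⁻¹ᵁ (PrimeSpectrum.basicOpen a)
      have hV : ∀ j, (V j : Set X) = (hU j).fromSpec.base '' (PrimeSpectrum.basicOpen (algebraMap A (C j) a) : Set (PrimeSpectrum (C j))) := fun j => by
        ext x
        constructor
        · rintro ⟨hx, hxa⟩
          obtain ⟨P, rfl⟩ := (hU j).range_fromSpec.ge hx
          refine ⟨P, ?_, rfl⟩
          have : f.base ((hU j).fromSpec.base P) = (Spec.map (φ j)).base P := congr($((hφ j).symm) P)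
          have hxa' : f.base ((hU j).fromSpec.base P) ∈ (PrimeSpectrum.basicOpen a : Set (PrimeSpectrum A)) := hxa
          rw [this] at hxa'
          exact hxa'
        · rintro ⟨P, hP, rfl⟩
          refine ⟨(hU j).range_fromSpec.le ⟨P, rfl⟩, ?_⟩
          show f.base ((hU j).fromSpec.base P) ∈ (PrimeSpectrum.basicOpen a : Set (PrimeSpectrum A))
          rw [show f.base ((hU j).fromSpec.base P) = (Spec.map (φ j)).base P from congr($((hφ j).symm) P)]
          exact hP
      have hVa : ∀ j, IsAffineOpen (V j) := fun j => by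
        have h1 := IsAffineOpen.Spec_basicOpen (R := Γ(X, U j)) (algebraMap A (C j) a)
        have h2 := h1.image_of_isOpenImmersion (hU j).fromSpec
        rwa [show (hU j).fromSpec ''ᵁ _ = V j from TopologicalSpace.Opens.ext (hV j).symm] at h2
      have hcov : f.base ⁻¹' (PrimeSpectrum.basicOpen a : Set (PrimeSpectrum A)) = ⋃ j, (V j : Set X) := by
        ext x
        simp only [Set.mem_iUnion]
        refine ⟨fun hx => ⟨_, Scheme.Cover.covers 𝒰 x, hx⟩, fun ⟨j, hj⟩ => hj.2⟩
      rw [hcov]
      refine isQuasiSeparated_of_cover V hVa fun j l => ?_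
      have h := (hcpt (j, l) a (dvd_mul_of_dvd_right (Finset.dvd_prod_of_mem _ (Finset.mem_univ (j, l))) _)).image
        (hU j).fromSpec.continuous
      rw [Set.image_preimage_inter, ← hV j] at h
      convert h using 1
      ext x
      simp only [V, TopologicalSpace.Opens.coe_inf, Set.mem_inter_iff]
      tauto
    exact QuasiSeparated.of_quasiSeparatedSpace _

end Groth.Agent.GeomComp

namespace Groth.Agent.GeomComp

/-- Both counts are constant on a dense open of the closure of any point. -/
theorem exists_const_closure {X Y : Scheme.{u}} (f : X ⟶ Y) [LocallyOfFiniteType f] [QuasiCompact f] (y : Y) :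
    ∃ V : Set Y, V ⊆ closure {y} ∧ y ∈ V ∧ IsOpen (Subtype.val ⁻¹' V : Set (closure ({y} : Set Y))) ∧
      ∀ y' ∈ V, MoreMor.nGeomIrredComp f y' = MoreMor.nGeomIrredComp f y ∧
        MoreMor.nGeomConnComp f y' = MoreMor.nGeomConnComp f y := by
  classical
  obtain ⟨U, hU, hyU, -⟩ := exists_isAffineOpen_mem_and_subset (U := (⊤ : Y.Opens)) (x := y) trivial
  let p := hU.primeIdealOf ⟨y, hyU⟩
  let R : Type u := Γ(Y, U)
  let A : Type u := R ⧸ p.asIdeal
  let π : R →+* A := Ideal.Quotient.mk p.asIdeal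
  let cl : Spec (CommRingCat.of A) ⟶ Spec Γ(Y, U) := Spec.map (CommRingCat.ofHom π)
  let c := cl ≫ hU.fromSpec
  haveI : IsClosedImmersion cl := IsClosedImmersion.spec_of_surjective _ Ideal.Quotient.mk_surjective
  have hemb : Topology.IsEmbedding c.base := hU.fromSpec.isOpenEmbedding.isEmbedding.comp cl.isClosedEmbedding.isEmbedding
  have hclp : Set.range cl.base = closure {p} := by
    rw [PrimeSpectrum.closure_singleton]
    exact (range_comap_of_surjective _ π Ideal.Quotient.mk_surjective).trans (by rw [Ideal.mk_ker])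
  have hrange : Set.range c.base = (U : Set Y) ∩ closure {y} := by
    rw [show (c.base : _ → Y) = hU.fromSpec.base ∘ cl.base from rfl, Set.range_comp, hclp]
    ext z
    constructor
    · rintro ⟨Q, hQ, rfl⟩
      refine ⟨hU.range_fromSpec.le ⟨Q, rfl⟩, ?_⟩
      have h := (specializes_iff_mem_closure.2 hQ).map hU.fromSpec.continuous
      rw [hU.fromSpec_primeIdealOf] at h
      exact h.mem_closure
    · rintro ⟨hz, hzy⟩
      obtain ⟨Q, rfl⟩ := hU.range_fromSpec.ge hz
      refine ⟨Q, (hU.fromSpec.isOpenEmbedding.isInducing.specializes_iff.1 ?_).mem_closure, rfl⟩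
      rw [hU.fromSpec_primeIdealOf]
      exact specializes_iff_mem_closure.2 hzy
  obtain ⟨a, ha, _, _⟩ := exists_restrict_fp (pullback.snd f c)
  let Aa := Localization.Away a
  haveI : IsDomain Aa := IsLocalization.isDomain_localization (powers_le_nonZeroDivisors_of_noZeroDivisors ha)
  let g := Spec.map (CommRingCat.ofHom (algebraMap A Aa))
  haveI : IsOpenImmersion g := IsOpenImmersion.of_isLocalization a
  let f' := pullback.snd (pullback.snd f c) g
  obtain ⟨A₀, _, _, _, H⟩ := exists_model_const f'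
  obtain ⟨a₀, n, m, ha₀, hconst⟩ := H ⟨(⊥ : Ideal Aa).comap (algebraMap A₀ Aa), inferInstance⟩
  let O : Set (Spec (CommRingCat.of Aa)) := (PrimeSpectrum.basicOpen (algebraMap A₀ Aa a₀) : Set (PrimeSpectrum Aa))
  have hO : IsOpen O := PrimeSpectrum.isOpen_basicOpen
  let η : Spec (CommRingCat.of Aa) := ⟨⊥, Ideal.bot_prime⟩
  have hηO : η ∈ O := fun h => ha₀ h
  have hcount : ∀ Q ∈ O, MoreMor.nGeomIrredComp f (c.base (g.base Q)) = n ∧
      MoreMor.nGeomConnComp f (c.base (g.base Q)) = m := fun Q hQ => by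
    have hpb := IsPullback.of_hasPullback f c
    have hpb' := IsPullback.of_hasPullback (pullback.snd f c) g
    rw [← nGeomIrredComp_baseChange hpb, ← nGeomConnComp_baseChange hpb, ← nGeomIrredComp_baseChange hpb',
      ← nGeomConnComp_baseChange hpb']
    exact hconst Q (Ideal.comap_mono bot_le) hQ
  have hgη : c.base (g.base η) = y := by
    have h1 : cl.base (g.base η) = p := PrimeSpectrum.ext (Ideal.ext fun x => by
      show algebraMap A Aa (π x) ∈ (⊥ : Ideal Aa) ↔ _
      rw [Ideal.mem_bot, map_eq_zero_iff _ (IsLocalization.injective Aa (powers_le_nonZeroDivisors_of_noZeroDivisors ha))]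
      exact Ideal.Quotient.eq_zero_iff_mem)
    show hU.fromSpec.base (cl.base (g.base η)) = y
    rw [h1, hU.fromSpec_primeIdealOf]
  refine ⟨c.base '' (g.base '' O), ?_, ⟨_, ⟨η, hηO, rfl⟩, hgη⟩, ?_, ?_⟩
  · exact (Set.image_subset_range _ _).trans (hrange.le.trans Set.inter_subset_right)
  · obtain ⟨W, hW, hWe⟩ := hemb.isInducing.isOpen_iff.1 (g.isOpenEmbedding.isOpenMap _ hO)
    have : (Subtype.val ⁻¹' (c.base '' (g.base '' O)) : Set (closure ({y} : Set Y))) =
        Subtype.val ⁻¹' (W ∩ (U : Set Y)) := by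
      ext ⟨z, hz⟩
      simp only [Set.mem_preimage]
      constructor
      · rintro ⟨w, hw, rfl⟩
        exact ⟨hWe.ge hw, (hrange.le ⟨w, rfl⟩).1⟩
      · rintro ⟨hzW, hzU⟩
        obtain ⟨w, rfl⟩ := hrange.ge ⟨hzU, hz⟩
        exact ⟨w, hWe.le hzW, rfl⟩
    rw [this]
    exact (hW.inter U.2).preimage continuous_subtype_val
  · rintro _ ⟨_, ⟨Q, hQ, rfl⟩, rfl⟩
    exact ⟨(hcount Q hQ).1.trans (hgη ▸ (hcount η hηO).1).symm, (hcount Q hQ).2.trans (hgη ▸ (hcount η hηO).2).symm⟩

/-- Geometric irreducibility from the counts. -/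
theorem geometricallyIrreducible_restrict {X Y : Scheme.{u}} (f : X ⟶ Y) (V : Y.Opens)
    (h : ∀ y ∈ V, MoreMor.nGeomIrredComp f y = 1) : GeometricallyIrreducible (f ∣_ V) := by
  refine ⟨fun K _ γ Z fst snd hpb => ?_⟩
  let Ω := AlgebraicClosure K
  let e : Spec (CommRingCat.of Ω) ⟶ Spec (CommRingCat.of K) := Spec.map (CommRingCat.ofHom (algebraMap K Ω))
  haveI : Surjective e := ⟨fun p => ⟨IsLocalRing.closedPoint Ω, Subsingleton.elim (α := PrimeSpectrum K) _ _⟩⟩
  have h1 := (hpb.paste_horiz (isPullback_morphismRestrict f V).flip)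
  have h2 := (IsPullback.of_hasPullback snd e).paste_horiz h1
  have hcount : nIrr (pullback snd e) = 1 := by
    rw [nIrr_iso h2.isoPullback, (count_pt (K := Ω) f (e ≫ γ ≫ V.ι) (IsLocalRing.closedPoint Ω)).1]
    refine h _ ?_
    show ((e ≫ γ ≫ V.ι).base (IsLocalRing.closedPoint Ω)) ∈ (V : Set Y)
    exact (γ.base (e.base (IsLocalRing.closedPoint Ω))).2
  obtain ⟨T, hT⟩ := Set.encard_eq_one.1 hcount
  have hT' : T ∈ irreducibleComponents ↥(pullback snd e) := hT ▸ rfl
  have hirr : IrreducibleSpace ↥(pullback snd e) := by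
    have huniv : T = Set.univ := Set.eq_univ_of_forall fun w => by
      have := irreducibleComponent_mem_irreducibleComponents w
      rw [hT, Set.mem_singleton_iff] at this
      exact this ▸ mem_irreducibleComponent
    have h3 := hT'.1
    rw [huniv] at h3
    exact (irreducibleSpace_def _).2 h3
  exact (pullback.fst snd e).surjective.irreducibleSpace (pullback.fst snd e).continuous

end Groth.Agent.GeomComp
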