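import Mathlib.RingTheory.FinitePresentation
import Mathlib.RingTheory.TensorProduct.Maps
import Mathlib

/-!
# Noetherian models of pairs of algebra maps
-/

set_option autoImplicit false
set_option linter.style.haveILetI false
set_option maxHeartbeats 400000

universe u

open TensorProduct

namespace Groth.Agent.GeomComp

/-- A finite set of polynomials is defined over a Noetherian subring. -/
theorem exists_subring {A : Type u} [CommRing A] (S : Set A) (hS : S.Finite) :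
    ∃ (A₀ : Type u) (_ : CommRing A₀) (_ : Algebra A₀ A), IsNoetherianRing A₀ ∧
      Function.Injective (algebraMap A₀ A) ∧ ∀ {σ : Type} (p : MvPolynomial σ A), (∀ d, p.coeff d ∈ S ∨ p.coeff d = 0) →
        ∃ p₀ : MvPolynomial σ A₀, MvPolynomial.map (algebraMap A₀ A) p₀ = p := by
  let T := Algebra.adjoin ℤ S
  haveI : Algebra.FiniteType ℤ T := (Subalgebra.fg_iff_finiteType _).1 (Subalgebra.fg_adjoin_finset hS.toFinset |> fun h => by
    rwa [hS.coe_toFinset] at h)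
  refine ⟨T, inferInstance, inferInstance, Algebra.FiniteType.isNoetherianRing ℤ T, Subtype.val_injective,
    fun {σ} p hp => MvPolynomial.mem_range_map_iff_coeffs_subset.2 fun x hx => ?_⟩
  obtain ⟨d, hd, rfl⟩ := MvPolynomial.mem_coeffs_iff.1 hx
  rcases hp d with h | h
  · exact ⟨⟨p.coeff d, Algebra.subset_adjoin h⟩, rfl⟩
  · exact ⟨0, by rw [map_zero, h]⟩

variable {A A₀ : Type u} [CommRing A] [CommRing A₀] [Algebra A₀ A]

/-- A relation holding over `A` holds over a subring containing its coefficients. -/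
theorem aeval_mem_span (hinj : Function.Injective (algebraMap A₀ A)) {n m : ℕ}
    {t : Finset (MvPolynomial (Fin m) A)} {f₀ : MvPolynomial (Fin n) A₀} {f : MvPolynomial (Fin n) A}
    (g₀ : t → MvPolynomial (Fin m) A₀) (k : Fin n → MvPolynomial (Fin m) A₀) (h : Fin n → MvPolynomial (Fin m) A)
    (d : t → MvPolynomial (Fin m) A₀) (c : MvPolynomial (Fin m) A → MvPolynomial (Fin m) A)
    (hf : MvPolynomial.map (algebraMap A₀ A) f₀ = f) (hg : ∀ g : t, MvPolynomial.map (algebraMap A₀ A) (g₀ g) = g.1)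
    (hk : ∀ j, MvPolynomial.map (algebraMap A₀ A) (k j) = h j)
    (hd : ∀ g : t, MvPolynomial.map (algebraMap A₀ A) (d g) = c g.1)
    (hc : ∑ g ∈ t, c g • g = MvPolynomial.aeval h f) :
    MvPolynomial.aeval k f₀ ∈ Ideal.span (Set.range g₀) := by
  have h1 : MvPolynomial.map (algebraMap A₀ A) (MvPolynomial.aeval k f₀) = MvPolynomial.aeval h f := by
    rw [← hf, show MvPolynomial.map (algebraMap A₀ A) (MvPolynomial.aeval k f₀) =
      MvPolynomial.mapAlgHom (Algebra.ofId A₀ A) (MvPolynomial.aeval k f₀) from rfl, ← AlgHom.comp_apply,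
      MvPolynomial.comp_aeval, MvPolynomial.aeval_map_algebraMap]
    congr 2
    funext j
    exact hk j
  have : MvPolynomial.aeval k f₀ = ∑ g : t, d g * g₀ g := MvPolynomial.map_injective _ hinj (by
    rw [map_sum, h1, ← hc, ← Finset.sum_coe_sort t]
    refine Finset.sum_congr rfl fun g _ => ?_
    rw [map_mul, hd, hg, smul_eq_mul])
  rw [this]
  exact Ideal.sum_mem _ fun g _ => Ideal.mul_mem_left _ _ (Ideal.subset_span ⟨g, rfl⟩)

/-- An algebra with a presentation defined over `A₀` is a base change. -/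
theorem exists_baseChange_equiv {C : Type u} [CommRing C] [Algebra A C] {n : ℕ}
    (π : MvPolynomial (Fin n) A →ₐ[A] C) (hπ : Function.Surjective π) {κ : Type u} (f : κ → MvPolynomial (Fin n) A)
    (hker : RingHom.ker π.toRingHom = Ideal.span (Set.range f)) (f₀ : κ → MvPolynomial (Fin n) A₀)
    (hf : ∀ i, MvPolynomial.map (algebraMap A₀ A) (f₀ i) = f i)
    {Q : Type u} [CommRing Q] [Algebra A₀ Q] (μ : MvPolynomial (Fin n) A₀ →ₐ[A₀] Q) (hμ : Function.Surjective μ)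
    (hμker : RingHom.ker μ.toRingHom = Ideal.span (Set.range f₀)) :
    ∃ e : A ⊗[A₀] Q ≃ₐ[A] C, ∀ j, e (1 ⊗ₜ μ (MvPolynomial.X j)) = π (MvPolynomial.X j) := by
  letI : Algebra A₀ C := ((algebraMap A C).comp (algebraMap A₀ A)).toAlgebra
  haveI : IsScalarTower A₀ A C := .of_algebraMap_eq fun _ => rfl
  let a : MvPolynomial (Fin n) A₀ →ₐ[A₀] C := MvPolynomial.aeval fun j => π (MvPolynomial.X j)
  have hπf : ∀ p : MvPolynomial (Fin n) A₀, a p = π (MvPolynomial.map (algebraMap A₀ A) p) := fun p => by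
    simp only [a]
    rw [← MvPolynomial.aeval_map_algebraMap A]
    exact (DFunLike.congr_fun (MvPolynomial.aeval_unique π) _).symm
  have hle₀ : RingHom.ker μ.toRingHom ≤ RingHom.ker a.toRingHom := hμker ▸ Ideal.span_le.2 (by
    rintro _ ⟨i, rfl⟩
    show a (f₀ i) = 0
    rw [hπf, hf]
    exact hker.ge (Ideal.subset_span ⟨i, rfl⟩))
  let α : Q →ₐ[A₀] C := AlgHom.liftOfSurjective μ hμ a hle₀
  have hα : ∀ p, α (μ p) = a p := fun p => AlgHom.liftOfSurjective_apply _ _ _ _ p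
  let F : A ⊗[A₀] Q →ₐ[A] C := Algebra.TensorProduct.lift (Algebra.ofId A C) α fun _ _ => .all _ _
  let G : MvPolynomial (Fin n) A →ₐ[A] A ⊗[A₀] Q :=
    MvPolynomial.aeval fun j => ((1 : A) ⊗ₜ[A₀] μ (MvPolynomial.X j) : A ⊗[A₀] Q)
  have hG : ∀ p : MvPolynomial (Fin n) A₀, G (MvPolynomial.map (algebraMap A₀ A) p) = (1 : A) ⊗ₜ[A₀] μ p := fun p => by
    simp only [G]
    rw [MvPolynomial.aeval_map_algebraMap]
    have h : MvPolynomial.aeval (R := A₀) (fun j => ((1 : A) ⊗ₜ[A₀] μ (MvPolynomial.X j) : A ⊗[A₀] Q)) =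
        (Algebra.TensorProduct.includeRight : Q →ₐ[A₀] A ⊗[A₀] Q).comp μ :=
      MvPolynomial.algHom_ext fun j => by simp
    exact DFunLike.congr_fun h p
  have hle : RingHom.ker π.toRingHom ≤ RingHom.ker G.toRingHom := hker ▸ Ideal.span_le.2 (by
    rintro _ ⟨i, rfl⟩
    show G (f i) = 0
    rw [← hf, hG, show μ (f₀ i) = 0 from hμker.ge (Ideal.subset_span ⟨i, rfl⟩), TensorProduct.tmul_zero])
  let G' : C →ₐ[A] A ⊗[A₀] Q := AlgHom.liftOfSurjective π hπ G hle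
  have hG' : ∀ p, G' (π p) = G p := fun p => AlgHom.liftOfSurjective_apply _ _ _ _ p
  have hF : ∀ j, F ((1 : A) ⊗ₜ[A₀] μ (MvPolynomial.X j)) = π (MvPolynomial.X j) := fun j => by
    simp only [F, Algebra.TensorProduct.lift_tmul, map_one, one_mul, hα, a, MvPolynomial.aeval_X]
  refine ⟨AlgEquiv.ofAlgHom F G' ?_ ?_, hF⟩
  · refine AlgHom.ext fun c => ?_
    obtain ⟨p, rfl⟩ := hπ c
    have : F.comp G = π := MvPolynomial.algHom_ext fun j => by simp [G, hF]
    show F (G' (π p)) = π p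
    rw [hG']
    exact DFunLike.congr_fun this p
  · refine Algebra.TensorProduct.ext (Subsingleton.elim _ _) (AlgHom.ext fun z => ?_)
    obtain ⟨p, rfl⟩ := hμ z
    show G' (F ((1 : A) ⊗ₜ[A₀] μ p)) = (1 : A) ⊗ₜ[A₀] μ p
    simp only [F, Algebra.TensorProduct.lift_tmul, map_one, one_mul]
    rw [hα, hπf, hG', hG]

/-- Models of two finitely presented algebras with two maps between them over a Noetherian subring. -/
theorem exists_alg_model {C D : Type u} [CommRing C] [CommRing D] [Algebra A C] [Algebra A D]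
    [Algebra.FinitePresentation A C] [Algebra.FinitePresentation A D] (φ₁ φ₂ : C →ₐ[A] D) :
    ∃ (A₀ : Type u) (_ : CommRing A₀) (_ : Algebra A₀ A), IsNoetherianRing A₀ ∧
      ∃ (C₀ D₀ : Type u) (_ : CommRing C₀) (_ : CommRing D₀) (_ : Algebra A₀ C₀) (_ : Algebra A₀ D₀)
        (_ : Algebra.FiniteType A₀ C₀) (_ : Algebra.FiniteType A₀ D₀) (ψ₁ ψ₂ : C₀ →ₐ[A₀] D₀)
        (eC : A ⊗[A₀] C₀ ≃ₐ[A] C) (eD : A ⊗[A₀] D₀ ≃ₐ[A] D),
        (∀ z, eD (Algebra.TensorProduct.map (AlgHom.id A A) ψ₁ z) = φ₁ (eC z)) ∧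
        (∀ z, eD (Algebra.TensorProduct.map (AlgHom.id A A) ψ₂ z) = φ₂ (eC z)) := by
  classical
  obtain ⟨⟨n, π, hπ, s, hs⟩⟩ := ‹Algebra.FinitePresentation A C›
  obtain ⟨⟨m, ρ, hρ, t, ht⟩⟩ := ‹Algebra.FinitePresentation A D›
  choose h₁ hh₁ using fun j => hρ (φ₁ (π (MvPolynomial.X j)))
  choose h₂ hh₂ using fun j => hρ (φ₂ (π (MvPolynomial.X j)))
  have hmem : ∀ (φ : C →ₐ[A] D) (h : Fin n → MvPolynomial (Fin m) A), (∀ j, ρ (h j) = φ (π (MvPolynomial.X j))) →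
      ∀ p ∈ s, MvPolynomial.aeval h p ∈ RingHom.ker ρ.toRingHom := fun φ h hh p hp => by
    have hp0 : π p = 0 := hs.le (Ideal.subset_span hp)
    have he : ρ.comp (MvPolynomial.aeval h) = φ.comp π := MvPolynomial.algHom_ext fun j => by simp [hh]
    show ρ _ = 0
    rw [show ρ (MvPolynomial.aeval h p) = φ (π p) from DFunLike.congr_fun he p, hp0, map_zero]
  choose c₁ hc₁ using fun p : s => (Submodule.mem_span_finset).1 (ht.ge (hmem φ₁ h₁ hh₁ p p.2))
  choose c₂ hc₂ using fun p : s => (Submodule.mem_span_finset).1 (ht.ge (hmem φ₂ h₂ hh₂ p p.2))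
  let S : Set A := (⋃ p ∈ s, ↑p.coeffs) ∪ (⋃ g ∈ t, ↑g.coeffs) ∪ (⋃ j, ↑(h₁ j).coeffs ∪ ↑(h₂ j).coeffs) ∪
    (⋃ p : s, ⋃ g ∈ t, ↑(c₁ p g).coeffs ∪ ↑(c₂ p g).coeffs)
  have hS : S.Finite := ((((s.finite_toSet.biUnion fun p _ => p.coeffs.finite_toSet).union
    (t.finite_toSet.biUnion fun g _ => g.coeffs.finite_toSet)).union
    (Set.finite_iUnion fun j => ((h₁ j).coeffs.finite_toSet).union (h₂ j).coeffs.finite_toSet))).union
    (Set.finite_iUnion fun p => t.finite_toSet.biUnion fun g _ =>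
      ((c₁ p g).coeffs.finite_toSet).union (c₂ p g).coeffs.finite_toSet)
  obtain ⟨A₀, _, _, hN, hinj, hl⟩ := exists_subring S hS
  have hl' : ∀ {σ : Type} (p : MvPolynomial σ A), (↑p.coeffs : Set A) ⊆ S →
      ∃ p₀ : MvPolynomial σ A₀, MvPolynomial.map (algebraMap A₀ A) p₀ = p := fun p hp => hl p fun d => by
    by_cases hd : p.coeff d = 0
    · exact Or.inr hd
    · exact Or.inl (hp (MvPolynomial.coeff_mem_coeffs _ hd))
  choose f₀ hf₀ using fun p : s => hl' p.1 fun x hx =>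
    Or.inl (Or.inl (Or.inl (Set.mem_biUnion p.2 hx)))
  choose g₀ hg₀ using fun g : t => hl' g.1 fun x hx =>
    Or.inl (Or.inl (Or.inr (Set.mem_biUnion g.2 hx)))
  choose k₁ hk₁ using fun j => hl' (h₁ j) fun x hx => Or.inl (Or.inr (Set.mem_iUnion.2 ⟨j, Or.inl hx⟩))
  choose k₂ hk₂ using fun j => hl' (h₂ j) fun x hx => Or.inl (Or.inr (Set.mem_iUnion.2 ⟨j, Or.inr hx⟩))
  choose d₁ hd₁ using fun (p : s) (g : t) => hl' (c₁ p g) fun x hx =>
    Or.inr (Set.mem_iUnion.2 ⟨p, Set.mem_biUnion g.2 (Or.inl hx)⟩)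
  choose d₂ hd₂ using fun (p : s) (g : t) => hl' (c₂ p g) fun x hx =>
    Or.inr (Set.mem_iUnion.2 ⟨p, Set.mem_biUnion g.2 (Or.inr hx)⟩)
  obtain ⟨eC, heC⟩ := exists_baseChange_equiv (A₀ := A₀) π hπ (fun p : s => p.1)
    (hs.symm.trans (congrArg Ideal.span Subtype.range_coe.symm)) f₀ hf₀
    (Ideal.Quotient.mkₐ A₀ (Ideal.span (Set.range f₀))) Ideal.Quotient.mk_surjective Ideal.mk_ker
  obtain ⟨eD, heD⟩ := exists_baseChange_equiv (A₀ := A₀) ρ hρ (fun g : t => g.1)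
    (ht.symm.trans (congrArg Ideal.span Subtype.range_coe.symm)) g₀ hg₀
    (Ideal.Quotient.mkₐ A₀ (Ideal.span (Set.range g₀))) Ideal.Quotient.mk_surjective Ideal.mk_ker
  simp only [Ideal.Quotient.mkₐ_eq_mk] at heC heD
  let C₀ := MvPolynomial (Fin n) A₀ ⧸ Ideal.span (Set.range f₀)
  let D₀ := MvPolynomial (Fin m) A₀ ⧸ Ideal.span (Set.range g₀)
  have hψ : ∀ (k : Fin n → MvPolynomial (Fin m) A₀), (∀ p : s, MvPolynomial.aeval k (f₀ p) ∈ Ideal.span (Set.range g₀)) →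
      ∃ ψ : C₀ →ₐ[A₀] D₀, ∀ j, ψ (Ideal.Quotient.mk _ (MvPolynomial.X j)) = Ideal.Quotient.mk _ (k j) := fun k hk => by
    refine ⟨Ideal.Quotient.liftₐ _ ((Ideal.Quotient.mkₐ A₀ _).comp (MvPolynomial.aeval k)) fun p hp => ?_, fun j => ?_⟩
    · have : Ideal.span (Set.range f₀) ≤ (Ideal.span (Set.range g₀)).comap (MvPolynomial.aeval k).toRingHom :=
        Ideal.span_le.2 (by rintro _ ⟨i, rfl⟩; exact hk i)
      exact Ideal.Quotient.eq_zero_iff_mem.2 (this hp)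
    · show Ideal.Quotient.mk _ (MvPolynomial.aeval k (MvPolynomial.X j)) = _
      rw [MvPolynomial.aeval_X]
  obtain ⟨ψ₁, hψ₁⟩ := hψ k₁ fun p => aeval_mem_span hinj g₀ k₁ h₁ (d₁ p) (c₁ p) (hf₀ p) hg₀ hk₁ (hd₁ p) (hc₁ p).2
  obtain ⟨ψ₂, hψ₂⟩ := hψ k₂ fun p => aeval_mem_span hinj g₀ k₂ h₂ (d₂ p) (c₂ p) (hf₀ p) hg₀ hk₂ (hd₂ p) (hc₂ p).2
  have key : ∀ (φ : C →ₐ[A] D) (h : Fin n → MvPolynomial (Fin m) A) (k : Fin n → MvPolynomial (Fin m) A₀),
      (∀ j, ρ (h j) = φ (π (MvPolynomial.X j))) → (∀ j, MvPolynomial.map (algebraMap A₀ A) (k j) = h j) →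
      ∀ (ψ : C₀ →ₐ[A₀] D₀), (∀ j, ψ (Ideal.Quotient.mk _ (MvPolynomial.X j)) = Ideal.Quotient.mk _ (k j)) →
      ∀ z, eD (Algebra.TensorProduct.map (AlgHom.id A A) ψ z) = φ (eC z) := by
    intro φ h k hh hk ψ hψ z
    letI : Algebra A₀ D := ((algebraMap A D).comp (algebraMap A₀ A)).toAlgebra
    haveI : IsScalarTower A₀ A D := .of_algebraMap_eq fun _ => rfl
    suffices hext : (eD.toAlgHom.comp (Algebra.TensorProduct.map (AlgHom.id A A) ψ)) = φ.comp eC.toAlgHom from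
      DFunLike.congr_fun hext z
    refine Algebra.TensorProduct.ext (Subsingleton.elim _ _) ?_
    refine Ideal.Quotient.algHom_ext A₀ ?_
    refine MvPolynomial.algHom_ext fun j => ?_
    show eD (1 ⊗ₜ ψ (Ideal.Quotient.mk _ (MvPolynomial.X j))) = φ (eC (1 ⊗ₜ Ideal.Quotient.mk _ (MvPolynomial.X j)))
    rw [hψ, heC, ← hh, ← hk]
    have : (eD.toAlgHom.restrictScalars A₀).comp ((Algebra.TensorProduct.includeRight (R := A₀) (A := A)).comp
        (Ideal.Quotient.mkₐ A₀ (Ideal.span (Set.range g₀)))) =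
        (ρ.restrictScalars A₀).comp (MvPolynomial.mapAlgHom (Algebra.ofId A₀ A)) :=
      MvPolynomial.algHom_ext fun l => by
        show eD (1 ⊗ₜ Ideal.Quotient.mk _ (MvPolynomial.X l)) = ρ (MvPolynomial.map (algebraMap A₀ A) (MvPolynomial.X l))
        rw [heD, MvPolynomial.map_X]
    exact DFunLike.congr_fun this (k j)
  refine ⟨A₀, _, _, hN, C₀, D₀, inferInstance, inferInstance, inferInstance, inferInstance,
    Algebra.FiniteType.of_surjective (Ideal.Quotient.mkₐ A₀ _) Ideal.Quotient.mk_surjective,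
    Algebra.FiniteType.of_surjective (Ideal.Quotient.mkₐ A₀ _) Ideal.Quotient.mk_surjective,
    ψ₁, ψ₂, eC, eD, ?_, ?_⟩
  all_goals intro z
  · exact key φ₁ h₁ k₁ hh₁ hk₁ ψ₁ hψ₁ z
  · exact key φ₂ h₂ k₂ hh₂ hk₂ ψ₂ hψ₂ z

end Groth.Agent.GeomComp
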