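import Groth.Agent.GeomComp.Count
import Groth.Agent.GeomIrr.Count

/-!
# Counting components through an atlas
-/

set_option autoImplicit false
set_option backward.isDefEq.respectTransparency false

universe u

open CategoryTheory Limits AlgebraicGeometry Topology

namespace Groth.Agent.GeomComp

/-- `P ⟶ X` with `Q ⟶ P ×_X P` is an atlas: flat, open, surjective, and jointly surjective on pairs. -/
structure IsAtlas {P Q X : Scheme.{u}} (p₁ p₂ : Q ⟶ P) (q : P ⟶ X) : Prop where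
  surj : Function.Surjective q.base
  isOpenMap : IsOpenMap q.base
  gen : GeneralizingMap q.base
  gen₁ : GeneralizingMap p₁.base
  gen₂ : GeneralizingMap p₂.base
  w : p₁ ≫ q = p₂ ≫ q
  lift : ∀ a b, q.base a = q.base b → ∃ r, p₁.base r = a ∧ p₂.base r = b

variable {P Q X : Scheme.{u}} {p₁ p₂ : Q ⟶ P} {q : P ⟶ X} {ι : Type u}

/-- Pairs of components glued along an open subset. -/
def Sep (p₁ p₂ : Q ⟶ P) (W : ι → Set P) (i j : ι) : Prop :=
  ∃ r : Q, (p₁.base r ∈ W i ∧ ∀ l, p₁.base r ∈ W l → l = i) ∧ (p₂.base r ∈ W j ∧ ∀ l, p₂.base r ∈ W l → l = j)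

/-- Pairs of components with meeting images. -/
def Meet (p₁ p₂ : Q ⟶ P) (W : ι → Set P) (i j : ι) : Prop :=
  ∃ r : Q, p₁.base r ∈ W i ∧ p₂.base r ∈ W j

/-- Counting the components of a scheme from those of an atlas. -/
theorem IsAtlas.counts [Finite ι] (hA : IsAtlas p₁ p₂ q) (W : ι → Set P)
    (h1 : ∀ i, IsClosed (W i) ∧ IsIrreducible (W i)) (h2 : ∀ w, ∃ i, w ∈ W i)
    (h3 : ∀ i j, W i ⊆ W j → i = j) :
    nIrr X = ENat.card (Quot (Sep p₁ p₂ W)) ∧ nConn X = ENat.card (Quot (Meet p₁ p₂ W)) := by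
  classical
  have hw : ∀ r, q.base (p₁.base r) = q.base (p₂.base r) := fun r => congr($(hA.w) r)
  let ζ : ι → P := fun i => ((h1 i).2).genericPoint
  have hgp : ∀ i, IsGenericPoint (ζ i) (W i) := fun i =>
    (h1 i).1.closure_eq ▸ (h1 i).2.isGenericPoint_genericPoint_closure
  have honly : ∀ i l, ζ i ∈ W l → l = i := fun i l hl => by
    have h : W i ⊆ W l := fun w hw => ((hgp i).specializes hw).mem_closed (h1 l).1 hl
    exact (h3 i l h).symm
  have hgenP : ∀ w i, w ∈ W i → ζ i ⤳ w := fun w i hw => (hgp i).specializes hw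
  have hmaxP : ∀ i w, w ⤳ ζ i → w = ζ i := fun i w hw => by
    obtain ⟨l, hl⟩ := h2 w
    have : l = i := honly i l (hw.mem_closed (h1 l).1 hl)
    exact (hw.antisymm (hgenP w i (this ▸ hl))).eq
  have hmax : ∀ i v, v ⤳ q.base (ζ i) → v = q.base (ζ i) := fun i v hv => by
    obtain ⟨w, hw', rfl⟩ := hA.gen hv
    rw [hmaxP i w hw']
  have hsep : ∀ i j, Sep p₁ p₂ W i j → q.base (ζ i) = q.base (ζ j) := fun i j ⟨r, ⟨hi, hi'⟩, hj, hj'⟩ => by
    obtain ⟨ε, hεr, hεi⟩ := hA.gen₁ (hgenP _ i hi)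
    have h : p₂.base ε ⤳ p₂.base r := hεr.map p₂.continuous
    obtain ⟨l, hl⟩ := h2 (p₂.base ε)
    obtain rfl : l = j := hj' l (h.mem_closed (h1 l).1 hl)
    have hl' : q.base (ζ l) ⤳ q.base (ζ i) := by
      rw [← hεi, hw ε]
      exact (hgenP _ l hl).map q.continuous
    exact (hmax i _ hl').symm
  constructor
  · have hcomp : ∀ i, closure {q.base (ζ i)} ∈ irreducibleComponents X := fun i =>
      GeomIrr.mem_genericPoints_iff.2 fun y hy => (hmax i y hy) ▸ specializes_refl _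
    let F : Quot (Sep p₁ p₂ W) → irreducibleComponents X :=
      Quot.lift (fun i => ⟨closure {q.base (ζ i)}, hcomp i⟩) fun i j h => Subtype.ext (congrArg (fun t => closure {t}) (hsep i j h))
    refine (ENat.card_congr (Equiv.ofBijective F ⟨?_, fun S => ?_⟩)).symm
    · rintro ⟨i⟩ ⟨j⟩ h
      have h' : closure {q.base (ζ i)} = closure {q.base (ζ j)} := congrArg Subtype.val h
      have heq : q.base (ζ i) = q.base (ζ j) :=
        ((specializes_iff_mem_closure.2 (h'.symm ▸ subset_closure rfl)).antisymm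
          (specializes_iff_mem_closure.2 (h' ▸ subset_closure rfl))).eq
      obtain ⟨r, hr₁, hr₂⟩ := hA.lift _ _ heq
      exact Quot.sound ⟨r, ⟨hr₁ ▸ (hgp i).mem, fun l hl => honly i l (hr₁ ▸ hl)⟩,
        hr₂ ▸ (hgp j).mem, fun l hl => honly j l (hr₂ ▸ hl)⟩
    · obtain ⟨v, hv⟩ := QuasiSober.sober S.2.1 (isClosed_of_mem_irreducibleComponents _ S.2)
      obtain ⟨w, rfl⟩ := hA.surj v
      obtain ⟨i, hi⟩ := h2 w
      refine ⟨Quot.mk _ i, Subtype.ext ?_⟩
      have hle : S.1 ⊆ closure {q.base (ζ i)} := hv.def ▸ closure_minimal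
        (Set.singleton_subset_iff.2 ((hgenP w i hi).map q.continuous).mem_closure) isClosed_closure
      exact ((S.2.2 isIrreducible_singleton.closure hle).antisymm hle)
  · let F : Quot (Meet p₁ p₂ W) → _root_.ConnectedComponents X :=
      Quot.lift (fun i => (q.base (ζ i) : _root_.ConnectedComponents X)) fun i j ⟨r, hi, hj⟩ => by
        have hpi := ConnectedComponents.coe_eq_coe'.2 (((h1 i).2.image q.base q.continuous.continuousOn).isConnected.2.subset_connectedComponent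
          ⟨_, hi, rfl⟩ ⟨_, (hgp i).mem, rfl⟩)
        have hpj := ConnectedComponents.coe_eq_coe'.2 (((h1 j).2.image q.base q.continuous.continuousOn).isConnected.2.subset_connectedComponent
          ⟨_, hj, rfl⟩ ⟨_, (hgp j).mem, rfl⟩)
        exact hpi.trans ((congrArg _ (hw r)).trans hpj.symm)
    let U : Quot (Meet p₁ p₂ W) → Set P := fun c => ⋃ i ∈ {i | Quot.mk _ i = c}, W i
    have hsame : ∀ {w w' i i'}, q.base w = q.base w' → w ∈ W i → w' ∈ W i' →
        Quot.mk (Meet p₁ p₂ W) i = Quot.mk _ i' := fun {w w' i i'} h hi hi' => by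
      obtain ⟨r, rfl, rfl⟩ := hA.lift w w' h
      exact Quot.sound ⟨r, hi, hi'⟩
    have hUo : ∀ c, IsOpen (U c) := fun c => by
      have : U c = (⋃ i ∈ {i | Quot.mk (Meet p₁ p₂ W) i ≠ c}, W i)ᶜ := by
        ext w
        simp only [U, Set.mem_iUnion, Set.mem_compl_iff, Set.mem_ofPred_eq]
        refine ⟨fun ⟨i, hi, hwi⟩ ⟨j, hj, hwj⟩ => hj ((hsame rfl hwj hwi).trans hi), fun h => ?_⟩
        obtain ⟨i, hi⟩ := h2 w
        exact ⟨i, by_contra fun hne => h ⟨i, hne, hi⟩, hi⟩
      rw [this]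
      exact ((Set.toFinite _).isClosed_biUnion fun i _ => (h1 i).1).isOpen_compl
    refine (ENat.card_congr (Equiv.ofBijective F ⟨?_, ?_⟩)).symm
    · rintro ⟨i⟩ ⟨j⟩ h
      have h' : connectedComponent (q.base (ζ i)) = connectedComponent (q.base (ζ j)) :=
        ConnectedComponents.coe_eq_coe.1 h
      have hcl : IsClopen (q.base '' U (Quot.mk _ i)) := by
        refine ⟨isOpen_compl_iff.1 ?_, hA.isOpenMap _ (hUo _)⟩
        have : (q.base '' U (Quot.mk _ i))ᶜ = ⋃ c ∈ {c | c ≠ Quot.mk _ i}, q.base '' U c := by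
          ext v
          simp only [U, Set.mem_compl_iff, Set.mem_image, Set.mem_iUnion, Set.mem_ofPred_eq]
          constructor
          · intro hv
            obtain ⟨w, rfl⟩ := hA.surj v
            obtain ⟨l, hl⟩ := h2 w
            exact ⟨Quot.mk _ l, fun hl' => hv ⟨w, ⟨l, hl', hl⟩, rfl⟩, w, ⟨l, rfl, hl⟩, rfl⟩
          · rintro ⟨c, hc, w, ⟨l, hl, hwl⟩, rfl⟩ ⟨w', ⟨l', hl', hwl'⟩, he⟩
            exact hc (hl.symm.trans ((hsame he hwl' hwl).symm.trans hl'))
        rw [this]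
        exact isOpen_biUnion fun c _ => hA.isOpenMap _ (hUo c)
      have hj : q.base (ζ j) ∈ q.base '' U (Quot.mk _ i) := hcl.connectedComponent_subset
        ⟨ζ i, Set.mem_biUnion (show i ∈ {x | Quot.mk _ x = Quot.mk (Meet p₁ p₂ W) i} from rfl) (hgp i).mem, rfl⟩
        (h' ▸ mem_connectedComponent)
      simp only [U, Set.mem_image, Set.mem_iUnion, Set.mem_ofPred_eq] at hj
      obtain ⟨w, ⟨l, hl, hlw⟩, he⟩ := hj
      exact hl.symm.trans (hsame he hlw (hgp j).mem)
    · intro c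
      obtain ⟨v, rfl⟩ := ConnectedComponents.surjective_coe c
      obtain ⟨w, rfl⟩ := hA.surj v
      obtain ⟨i, hi⟩ := h2 w
      exact ⟨Quot.mk _ i, ConnectedComponents.coe_eq_coe'.2
        (((h1 i).2.image q.base q.continuous.continuousOn).isConnected.2.subset_connectedComponent
          ⟨_, hi, rfl⟩ ⟨_, (hgp i).mem, rfl⟩)⟩

end Groth.Agent.GeomComp
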