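import Groth.Agent.GeomComp.Spread
import Groth.Agent.GeomComp.AtlasCount

/-!
# Component counts of schemes with a given atlas over a Noetherian domain
-/

set_option autoImplicit false
set_option linter.style.haveILetI false
set_option linter.unusedSectionVars false
set_option backward.isDefEq.respectTransparency false
set_option maxHeartbeats 1000000
set_option synthInstance.maxHeartbeats 100000

universe u

open CategoryTheory CategoryTheory.Limits AlgebraicGeometry TensorProduct Topology

namespace Groth.Agent.GeomComp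

/-- `Spec (k ⊗ C) ⟶ Spec (T ⊗ C)`. -/
noncomputable abbrev baseMapT (A T k C : Type u) [CommRing A] [CommRing T] [CommRing k] [CommRing C] [Algebra A T]
    [Algebra A k] [Algebra T k] [IsScalarTower A T k] [Algebra A C] :
    Spec (CommRingCat.of (k ⊗[A] C)) ⟶ Spec (CommRingCat.of (T ⊗[A] C)) :=
  Spec.map (CommRingCat.ofHom (Algebra.TensorProduct.map (IsScalarTower.toAlgHom A T k) (AlgHom.id A C)).toRingHom)

/-- A `k`-fibre is the fibre product. -/
theorem exists_iso_fibre (A T k C : Type u) [CommRing A] [CommRing T] [CommRing k] [CommRing C] [Algebra A T]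
    [Algebra A k] [Algebra T k] [IsScalarTower A T k] [Algebra A C] :
    ∃ e : Spec (CommRingCat.of (k ⊗[A] C)) ≅
        pullback (Spec.map (CommRingCat.ofHom (algebraMap T (T ⊗[A] C)))) (Spec.map (CommRingCat.ofHom (algebraMap T k))),
      e.hom ≫ pullback.fst _ _ = baseMapT A T k C := by
  let E := (Algebra.TensorProduct.cancelBaseChange A T k k C).toRingEquiv.toCommRingCatIso
  refine ⟨Scheme.Spec.mapIso E.op ≪≫ (pullbackSpecIso T k (T ⊗[A] C)).symm ≪≫ pullbackSymmetry _ _, ?_⟩
  rw [Iso.trans_hom, Iso.trans_hom, Category.assoc, Category.assoc, pullbackSymmetry_hom_comp_fst, Iso.symm_hom,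
    pullbackSpecIso_inv_snd]
  show Spec.map E.hom ≫ _ = _
  rw [← Spec.map_comp]
  congr 1
  refine CommRingCat.hom_ext ?_
  refine RingHom.ext fun z => ?_
  show Algebra.TensorProduct.cancelBaseChange A T k k C ((1 : k) ⊗ₜ z) = Algebra.TensorProduct.map _ _ z
  induction z using TensorProduct.induction_on with
  | zero => simp
  | add x y hx hy => rw [TensorProduct.tmul_add, map_add, map_add, hx, hy]
  | tmul t c => simp [Algebra.smul_def]

/-- Base change of maps commutes with the projection. -/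
theorem baseMapT_comp (A T k C D : Type u) [CommRing A] [CommRing T] [CommRing k] [CommRing C] [CommRing D]
    [Algebra A T] [Algebra A k] [Algebra T k] [IsScalarTower A T k] [Algebra A C] [Algebra A D] (φ : C →ₐ[A] D) :
    Spec.map (CommRingCat.ofHom (Algebra.TensorProduct.map (AlgHom.id A k) φ).toRingHom) ≫ baseMapT A T k C =
      baseMapT A T k D ≫ Spec.map (CommRingCat.ofHom (Algebra.TensorProduct.map (AlgHom.id A T) φ).toRingHom) := by
  rw [← Spec.map_comp, ← Spec.map_comp]
  congr 1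
  refine CommRingCat.hom_ext ?_
  refine RingHom.ext fun z => ?_
  show Algebra.TensorProduct.map (AlgHom.id A k) φ (Algebra.TensorProduct.map _ _ z) =
    Algebra.TensorProduct.map _ _ (Algebra.TensorProduct.map (AlgHom.id A T) φ z)
  induction z using TensorProduct.induction_on with
  | zero => simp
  | add x y hx hy => simp only [map_add, hx, hy]
  | tmul t c => simp

/-- **Constancy of component counts for a given atlas.** -/
theorem exists_const_atlas {A : Type u} [CommRing A] [IsDomain A] [IsNoetherianRing A] {C D : Type u} [CommRing C]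
    [CommRing D] [Algebra A C] [Algebra A D] [Algebra.FiniteType A C] [Algebra.FiniteType A D] (φ₁ φ₂ : C →ₐ[A] D) :
    ∃ (a : A) (n m : ℕ∞), a ≠ 0 ∧ ∀ (k : Type u) [Field k] [IsAlgClosed k] [Algebra A k], algebraMap A k a ≠ 0 →
      ∀ (X : Scheme.{u}) (q : Spec (CommRingCat.of (k ⊗[A] C)) ⟶ X),
        IsAtlas (Spec.map (CommRingCat.ofHom (Algebra.TensorProduct.map (AlgHom.id A k) φ₁).toRingHom))
          (Spec.map (CommRingCat.ofHom (Algebra.TensorProduct.map (AlgHom.id A k) φ₂).toRingHom)) q →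
        nIrr X = n ∧ nConn X = m := by
  classical
  obtain ⟨s, hs, hs'⟩ := exists_split (A := A) (C := C)
  let T := Algebra.adjoin A (↑s : Set (Omega A))
  haveI : Module.Finite A T := Algebra.finite_adjoin_of_finite_of_isIntegral s.finite_toSet fun w hw => hs w hw
  haveI : Algebra.IsIntegral A T := Algebra.IsIntegral.of_finite A T
  haveI : IsNoetherianRing T := Algebra.FiniteType.isNoetherianRing A T
  haveI : IsNoetherianRing (CommRingCat.of T) := ‹IsNoetherianRing T›
  haveI : FaithfulSMul T (Omega A) := (faithfulSMul_iff_algebraMap_injective T (Omega A)).2 Subtype.val_injective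
  let πC : Spec (CommRingCat.of (T ⊗[A] C)) ⟶ Spec (CommRingCat.of T) :=
    Spec.map (CommRingCat.ofHom (algebraMap T (T ⊗[A] C)))
  let πD : Spec (CommRingCat.of (T ⊗[A] D)) ⟶ Spec (CommRingCat.of T) :=
    Spec.map (CommRingCat.ofHom (algebraMap T (T ⊗[A] D)))
  haveI : LocallyOfFiniteType πC := (HasRingHomProperty.Spec_iff (P := @LocallyOfFiniteType)).2
    (RingHom.finiteType_algebraMap.2 inferInstance)
  haveI : LocallyOfFiniteType πD := (HasRingHomProperty.Spec_iff (P := @LocallyOfFiniteType)).2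
    (RingHom.finiteType_algebraMap.2 inferInstance)
  have hdatum : HasDatum πC := hasDatum πC (n := 1) (fun _ => T ⊗[A] C) (fun _ => 𝟙 _) (fun _ => Category.id_comp _)
    (fun x => ⟨0, x, rfl⟩) (fun _ q _ hq hmin => exists_noZeroDivisors_of_split (A := A) T
      (hs' T fun w hw => Algebra.subset_adjoin hw) q hq hmin)
  obtain ⟨b, ι, _, Z, R, hb, hZ, hdat⟩ := hdatum
  haveI : IsLocallyNoetherian (Spec (CommRingCat.of T)) := inferInstance
  haveI : IsLocallyNoetherian (Spec (CommRingCat.of (T ⊗[A] D))) := LocallyOfFiniteType.isLocallyNoetherian πD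
  haveI : IsNoetherian (Spec (CommRingCat.of (T ⊗[A] D))) := ⟨⟩
  have hcons : ∀ S : Set (Spec (CommRingCat.of (T ⊗[A] D))), IsLocallyClosed S → IsConstructible S := fun S hS => by
    obtain ⟨U, V, hU, hV, rfl⟩ := hS
    exact (IsRetrocompact.isConstructible hU (fun _ _ _ => TopologicalSpace.NoetherianSpace.isCompact _)).inter
      (isConstructible_compl.1 (IsRetrocompact.isConstructible hV.isOpen_compl
        (fun _ _ _ => TopologicalSpace.NoetherianSpace.isCompact _)))
  let only : ι → Set (Spec (CommRingCat.of (T ⊗[A] C))) := fun i => Z i ∩ (⋃ l ∈ {l | l ≠ i}, Z l)ᶜ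
  let ψ₁ := Spec.map (CommRingCat.ofHom (Algebra.TensorProduct.map (AlgHom.id A T) φ₁).toRingHom)
  let ψ₂ := Spec.map (CommRingCat.ofHom (Algebra.TensorProduct.map (AlgHom.id A T) φ₂).toRingHom)
  have honly : ∀ i, IsLocallyClosed (only i) := fun i => (hZ i).isLocallyClosed.inter
    ((Set.toFinite _).isClosed_biUnion fun l _ => hZ l).isOpen_compl.isLocallyClosed
  choose c hc hcd using fun i j => exists_dichotomy πD (hcons _
    (((honly i).preimage ψ₁.continuous).inter ((honly j).preimage ψ₂.continuous)))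
  choose d hd hdd using fun i j => exists_dichotomy πD (hcons _
    (((hZ i).isLocallyClosed.preimage ψ₁.continuous).inter
      ((hZ j).isLocallyClosed.preimage ψ₂.continuous)))
  let SepR : ι → ι → Prop := fun i j => ∀ z : Spec (CommRingCat.of (T ⊗[A] D)),
    πD.base z ∈ PrimeSpectrum.basicOpen (c i j) → z ∉ ψ₁.base ⁻¹' only i ∩ ψ₂.base ⁻¹' only j
  let MeetR : ι → ι → Prop := fun i j => ∀ z : Spec (CommRingCat.of (T ⊗[A] D)),
    πD.base z ∈ PrimeSpectrum.basicOpen (d i j) → z ∉ ψ₁.base ⁻¹' Z i ∩ ψ₂.base ⁻¹' Z j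
  haveI := Fintype.ofFinite ι
  let B : T := b * ((∏ p : ι × ι, c p.1 p.2) * ∏ p : ι × ι, d p.1 p.2)
  have hB : B ≠ 0 := mul_ne_zero hb (mul_ne_zero (Finset.prod_ne_zero_iff.2 fun p _ => hc _ _)
    (Finset.prod_ne_zero_iff.2 fun p _ => hd _ _))
  obtain ⟨a, ha, hba⟩ : ∃ a : A, a ≠ 0 ∧ B ∣ algebraMap A T a := by
    have h := Ideal.IsIntegral.comap_ne_bot (R := A) (I := Ideal.span {B}) (by simpa using hB)
    obtain ⟨a, ha, ha0⟩ := Submodule.exists_mem_ne_zero_of_ne_bot h
    exact ⟨a, ha0, Ideal.mem_span_singleton.1 ha⟩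
  refine ⟨a, ENat.card (Quot fun i j => ¬ SepR i j), ENat.card (Quot fun i j => ¬ MeetR i j), ha,
    fun k _ _ _ hak X q hq => ?_⟩
  -- a point of `T` in `k`
  obtain ⟨θ⟩ : Nonempty (T →ₐ[A] k) := by
    let p := RingHom.ker (algebraMap A k)
    haveI : p.IsPrime := RingHom.ker_isPrime _
    have hinjA : Function.Injective (algebraMap A T) := fun x y h =>
      algebraMap_omega_injective A (congrArg Subtype.val h)
    obtain ⟨P, -, hP, hPp⟩ := Ideal.exists_ideal_over_prime_of_isIntegral (R := A) (S := T) p ⊥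
      (by rw [← RingHom.ker_eq_comap_bot, (RingHom.injective_iff_ker_eq_bot _).1 hinjA]; exact bot_le)
    haveI : P.LiesOver p := ⟨hPp.symm⟩
    haveI : Algebra.IsIntegral (A ⧸ p) (T ⧸ P) := inferInstance
    letI : Algebra (A ⧸ p) k := (RingHom.kerLift (algebraMap A k)).toAlgebra
    haveI : IsScalarTower A (A ⧸ p) k := .of_algebraMap_eq fun _ => rfl
    haveI : FaithfulSMul (A ⧸ p) (T ⧸ P) := (faithfulSMul_iff_algebraMap_injective _ _).2 fun x y h => by
      obtain ⟨x, rfl⟩ := Ideal.Quotient.mk_surjective x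
      obtain ⟨y, rfl⟩ := Ideal.Quotient.mk_surjective y
      have h' : Ideal.Quotient.mk P (algebraMap A T x) = Ideal.Quotient.mk P (algebraMap A T y) := h
      rw [Ideal.Quotient.eq] at h' ⊢
      show x - y ∈ p
      rw [← hPp, Ideal.mem_comap, map_sub]
      exact h'
    haveI : Module.IsTorsionFree (A ⧸ p) (T ⧸ P) := Module.IsTorsionFree.trans_faithfulSMul _ (T ⧸ P) _
    haveI : FaithfulSMul (A ⧸ p) k := (faithfulSMul_iff_algebraMap_injective _ _).2 (RingHom.kerLift_injective _)
    haveI : Module.IsTorsionFree (A ⧸ p) k := Module.IsTorsionFree.trans_faithfulSMul _ k _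
    let l : T ⧸ P →ₐ[A ⧸ p] k := IsAlgClosed.lift
    exact ⟨(l.restrictScalars A).comp (Ideal.Quotient.mkₐ A P)⟩
  letI : Algebra T k := θ.toRingHom.toAlgebra
  haveI : IsScalarTower A T k := .of_algebraMap_eq fun x => (θ.commutes x).symm
  let γ : Spec (CommRingCat.of k) ⟶ Spec (CommRingCat.of T) := Spec.map (CommRingCat.ofHom (algebraMap T k))
  have hγ : ∀ e : T, e ∣ B → ∀ p, γ.base p ∈ PrimeSpectrum.basicOpen e := fun e he p h => by
    obtain ⟨f, hf⟩ := he.trans hba
    have hp : p.asIdeal = ⊥ := (Ideal.eq_bot_or_top p.asIdeal).resolve_right p.2.ne_top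
    have h' : algebraMap T k e ∈ p.asIdeal := h
    rw [hp, Ideal.mem_bot] at h'
    exact hak (by rw [IsScalarTower.algebraMap_apply A T k, hf, map_mul, h', zero_mul])
  obtain ⟨h1, h2, h3, -⟩ := hdat k γ (hγ b (dvd_mul_right _ _))
  obtain ⟨e, he⟩ := exists_iso_fibre A T k C
  let W : ι → Set (Spec (CommRingCat.of (k ⊗[A] C))) := fun i => e.hom.base ⁻¹' ((pullback.fst πC γ).base ⁻¹' Z i)
  have he' : ∀ z, (pullback.fst πC γ).base (e.hom.base z) = (baseMapT A T k C).base z := fun z => congr($he z)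
  have hW1 : ∀ i, IsClosed (W i) ∧ IsIrreducible (W i) := fun i => by
    refine ⟨(h1 i).1.preimage e.hom.continuous, ?_⟩
    have : W i = e.inv.base '' ((pullback.fst πC γ).base ⁻¹' Z i) := by
      ext z
      refine ⟨fun hz => ⟨e.hom.base z, hz, congr($(e.hom_inv_id) z)⟩, ?_⟩
      rintro ⟨w, hw, rfl⟩
      show e.hom.base (e.inv.base w) ∈ (pullback.fst πC γ).base ⁻¹' Z i
      rwa [show e.hom.base (e.inv.base w) = w from congr($(e.inv_hom_id) w)]
    rw [this]
    exact (h1 i).2.image _ e.inv.continuous.continuousOn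
  have hW2 : ∀ z, ∃ i, z ∈ W i := fun z => h2 _
  have hW3 : ∀ i j, W i ⊆ W j → i = j := fun i j h => h3 i j fun w hw => by
    have hw' := h (show e.inv.base w ∈ W i by
      show e.hom.base (e.inv.base w) ∈ (pullback.fst πC γ).base ⁻¹' Z i
      rwa [show e.hom.base (e.inv.base w) = w from congr($(e.inv_hom_id) w)])
    rwa [Set.mem_preimage, show e.hom.base (e.inv.base w) = w from congr($(e.inv_hom_id) w)] at hw'
  obtain ⟨hI, hC⟩ := hq.counts W hW1 hW2 hW3
  have hmem : ∀ z i, z ∈ W i ↔ (baseMapT A T k C).base z ∈ Z i := fun z i => by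
    rw [← he' z]; rfl
  let p₁ := Spec.map (CommRingCat.ofHom (Algebra.TensorProduct.map (AlgHom.id A k) φ₁).toRingHom)
  let p₂ := Spec.map (CommRingCat.ofHom (Algebra.TensorProduct.map (AlgHom.id A k) φ₂).toRingHom)
  have hn₁ : ∀ r, (baseMapT A T k C).base (p₁.base r) = ψ₁.base ((baseMapT A T k D).base r) := fun r =>
    congr($(baseMapT_comp A T k C D φ₁) r)
  have hn₂ : ∀ r, (baseMapT A T k C).base (p₂.base r) = ψ₂.base ((baseMapT A T k D).base r) := fun r =>
    congr($(baseMapT_comp A T k C D φ₂) r)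
  obtain ⟨eD, heD⟩ := exists_iso_fibre A T k D
  have hdich : ∀ (e : T), e ∣ B → ∀ S : Set (Spec (CommRingCat.of (T ⊗[A] D))),
      ((∀ z, πD.base z ∈ PrimeSpectrum.basicOpen e → z ∉ S) ∧ (∀ z ∈ S, (πD.base z).asIdeal ≠ ⊥) ∨
        ∀ (k' : Type u) [Field k'] (γ' : Spec (CommRingCat.of k') ⟶ Spec (CommRingCat.of T)),
          (∀ p, γ'.base p ∈ PrimeSpectrum.basicOpen e) → ((pullback.fst πD γ').base ⁻¹' S).Nonempty) →
      ((∃ r, (baseMapT A T k D).base r ∈ S) ↔ ¬ ∀ z, πD.base z ∈ PrimeSpectrum.basicOpen e → z ∉ S) := by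
    intro e he S hS
    constructor
    · rintro ⟨r, hr⟩ hno
      refine hno _ ?_ hr
      rw [← show (pullback.fst πD γ).base (eD.hom.base r) = (baseMapT A T k D).base r from congr($heD r),
        show πD.base ((pullback.fst πD γ).base (eD.hom.base r)) = γ.base ((pullback.snd πD γ).base (eD.hom.base r)) from
          congr($(pullback.condition (f := πD) (g := γ)) _)]
      exact hγ e he _
    · intro hno
      obtain ⟨w, hw⟩ := (hS.resolve_left fun h => hno h.1) k γ (hγ e he)
      refine ⟨eD.inv.base w, ?_⟩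
      rw [← show (pullback.fst πD γ).base (eD.hom.base (eD.inv.base w)) = (baseMapT A T k D).base (eD.inv.base w) from
        congr($heD _), show eD.hom.base (eD.inv.base w) = w from congr($(eD.inv_hom_id) w)]
      exact hw
  have honly' : ∀ (r : Spec (CommRingCat.of (k ⊗[A] C))) i,
      (r ∈ W i ∧ ∀ l, r ∈ W l → l = i) ↔ (baseMapT A T k C).base r ∈ only i := fun r i => by
    simp only [only, Set.mem_inter_iff, Set.mem_compl_iff, Set.mem_iUnion, Set.mem_ofPred_eq, hmem]
    exact and_congr_right fun _ => ⟨fun h ⟨l, hl, hrl⟩ => hl (h l hrl), fun h l hl => by_contra fun hne => h ⟨l, hne, hl⟩⟩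
  have hdvd₁ : ∀ i j, c i j ∣ B := fun i j => dvd_mul_of_dvd_right (dvd_mul_of_dvd_left
    (Finset.dvd_prod_of_mem (fun p : ι × ι => c p.1 p.2) (Finset.mem_univ (i, j))) _) _
  have hdvd₂ : ∀ i j, d i j ∣ B := fun i j => dvd_mul_of_dvd_right (dvd_mul_of_dvd_right
    (Finset.dvd_prod_of_mem (fun p : ι × ι => d p.1 p.2) (Finset.mem_univ (i, j))) _) _
  have hSep : (fun i j => ¬ SepR i j) = Sep p₁ p₂ W := by
    funext i j
    refine propext ((hdich (c i j) (hdvd₁ i j) _ (hcd i j)).symm.trans (exists_congr fun r => ?_))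
    rw [honly', honly', hn₁, hn₂]
    rfl
  have hMeet : (fun i j => ¬ MeetR i j) = Meet p₁ p₂ W := by
    funext i j
    refine propext ((hdich (d i j) (hdvd₂ i j) _ (hdd i j)).symm.trans (exists_congr fun r => ?_))
    rw [hmem, hmem, hn₁, hn₂]
    rfl
  rw [hSep, hMeet]
  exact ⟨hI, hC⟩

end Groth.Agent.GeomComp
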