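import Groth.Agent.GeomComp.AtlasCount
import Mathlib.RingTheory.FinitePresentation

/-!
# Noetherian models of atlases

A quasi-compact quasi-separated scheme of finite presentation over an affine scheme has an affine
atlas defined over a Noetherian subring of the base.
-/

set_option autoImplicit false
set_option linter.style.haveILetI false
set_option backward.isDefEq.respectTransparency false
set_option maxHeartbeats 1000000

universe u

open CategoryTheory CategoryTheory.Limits AlgebraicGeometry TensorProduct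

namespace Groth.Agent.GeomComp

/-- An affine scheme covering a quasi-compact scheme by a flat, finitely presented, surjective map. -/
theorem exists_affine_cover (X : Scheme.{u}) [CompactSpace X] :
    ∃ (U : Scheme.{u}) (q : U ⟶ X), IsAffine U ∧ Flat q ∧ LocallyOfFinitePresentation q ∧ Surjective q := by
  let 𝒰 := X.affineCover.finiteSubcover
  refine ⟨∐ 𝒰.X, Sigma.desc 𝒰.f, inferInstance, inferInstance, IsZariskiLocalAtSource.sigmaDesc fun i => inferInstance,
    ⟨fun x => ?_⟩⟩
  obtain ⟨w, hw⟩ := Scheme.Cover.covers 𝒰 x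
  refine ⟨(Sigma.ι 𝒰.X _).base w, ?_⟩
  rw [← Scheme.Hom.comp_apply, Sigma.ι_desc]
  exact hw

theorem IsAtlas.of_iso {P Q P' Q' X : Scheme.{u}} {p₁ p₂ : Q ⟶ P} {q : P ⟶ X} (h : IsAtlas p₁ p₂ q)
    (eP : P' ≅ P) (eQ : Q' ≅ Q) {p₁' p₂' : Q' ⟶ P'} (w₁ : p₁' ≫ eP.hom = eQ.hom ≫ p₁)
    (w₂ : p₂' ≫ eP.hom = eQ.hom ≫ p₂) : IsAtlas p₁' p₂' (eP.hom ≫ q) := by
  have hgen : ∀ {S T : Scheme.{u}} (e : S ≅ T), GeneralizingMap e.hom.base := fun e => Flat.generalizingMap e.hom
  have h₁ : p₁' = eQ.hom ≫ p₁ ≫ eP.inv := by rw [← reassoc_of% w₁, Iso.hom_inv_id, Category.comp_id]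
  have h₂ : p₂' = eQ.hom ≫ p₂ ≫ eP.inv := by rw [← reassoc_of% w₂, Iso.hom_inv_id, Category.comp_id]
  refine ⟨h.surj.comp eP.hom.surjective, h.isOpenMap.comp eP.hom.isOpenEmbedding.isOpenMap, (hgen eP).comp h.gen,
    ?_, ?_, ?_, fun a b hab => ?_⟩
  · rw [h₁]; exact (hgen eQ).comp (h.gen₁.comp (hgen eP.symm))
  · rw [h₂]; exact (hgen eQ).comp (h.gen₂.comp (hgen eP.symm))
  · rw [reassoc_of% w₁, reassoc_of% w₂, h.w]
  · obtain ⟨r, hr₁, hr₂⟩ := h.lift (eP.hom.base a) (eP.hom.base b) hab
    obtain ⟨r, rfl⟩ := eQ.hom.surjective r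
    refine ⟨r, eP.hom.isOpenEmbedding.injective ?_, eP.hom.isOpenEmbedding.injective ?_⟩
    · exact (congr($w₁ r) : _).trans hr₁
    · exact (congr($w₂ r) : _).trans hr₂

/-- Atlases base change. -/
theorem isAtlas_baseChange {U R X S S' : Scheme.{u}} (q : U ⟶ X) (f : X ⟶ S) [Flat q]
    [LocallyOfFinitePresentation q] [Surjective q] (r : R ⟶ pullback q q) [Flat r] [Surjective r] (γ : S' ⟶ S) :
    IsAtlas
      (pullback.map ((r ≫ pullback.fst q q) ≫ q ≫ f) γ (q ≫ f) γ (r ≫ pullback.fst q q) (𝟙 _) (𝟙 _)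
        (by simp) (by simp))
      (pullback.map ((r ≫ pullback.fst q q) ≫ q ≫ f) γ (q ≫ f) γ (r ≫ pullback.snd q q) (𝟙 _) (𝟙 _)
        (by simp [pullback.condition_assoc]) (by simp))
      (pullback.map (q ≫ f) γ f γ q (𝟙 _) (𝟙 _) (by simp) (by simp)) := by
  have hbc : ∀ {A B : Scheme.{u}} (m : A ⟶ B) (g : B ⟶ S) (ga : A ⟶ S) (h : ga = m ≫ g),
      IsPullback (pullback.fst ga γ) (pullback.map ga γ g γ m (𝟙 _) (𝟙 _) (by simp [h]) (by simp)) m (pullback.fst g γ) :=
    fun m g ga h => by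
      subst h
      refine IsPullback.of_bot (v₂₁ := pullback.snd g γ) (v₂₂ := g) (h₃₁ := γ) ?_ (by simp) (IsPullback.of_hasPullback g γ)
      simpa using IsPullback.of_hasPullback (m ≫ g) γ
  let qk := pullback.map (q ≫ f) γ f γ q (𝟙 _) (𝟙 _) (by simp) (by simp)
  have hqk := hbc q f (q ≫ f) rfl
  haveI : Flat qk := MorphismProperty.of_isPullback hqk ‹Flat q›
  haveI : LocallyOfFinitePresentation qk := MorphismProperty.of_isPullback hqk ‹LocallyOfFinitePresentation q›
  haveI : Surjective qk := MorphismProperty.of_isPullback hqk ‹Surjective q›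
  haveI : UniversallyOpen qk := inferInstance
  have hgen : ∀ (m : R ⟶ U) (_ : Flat m) (h : (r ≫ pullback.fst q q) ≫ q ≫ f = m ≫ q ≫ f),
      GeneralizingMap (pullback.map ((r ≫ pullback.fst q q) ≫ q ≫ f) γ (q ≫ f) γ m (𝟙 _) (𝟙 _)
        (by simp [h]) (by simp)).base := fun m hm h => by
    haveI := MorphismProperty.of_isPullback (hbc m (q ≫ f) _ h) hm
    exact Flat.generalizingMap _
  refine ⟨qk.surjective, qk.isOpenMap, Flat.generalizingMap qk, hgen _ inferInstance rfl,
    hgen _ inferInstance (by simp [pullback.condition_assoc]), ?_, fun a b hab => ?_⟩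
  · refine pullback.hom_ext ?_ ?_ <;> simp [pullback.condition]
  · obtain ⟨z, hza, hzb⟩ := Scheme.Pullback.exists_preimage_pullback a b hab
    let m₀ : pullback qk qk ⟶ pullback q q :=
      pullback.map qk qk q q (pullback.fst _ _) (pullback.fst _ _) (pullback.fst _ _)
        (pullback.lift_fst _ _ _) (pullback.lift_fst _ _ _)
    obtain ⟨v, hv⟩ := (pullback.fst m₀ r).surjective z
    have hcond : (pullback.snd m₀ r ≫ r ≫ pullback.fst q q) ≫ q ≫ f =
        (pullback.fst m₀ r ≫ pullback.fst qk qk ≫ pullback.snd (q ≫ f) γ) ≫ γ := by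
      rw [← reassoc_of% (pullback.condition (f := m₀) (g := r))]
      simp only [m₀, Category.assoc, pullback.lift_fst_assoc, pullback.condition]
    let τ : pullback m₀ r ⟶ pullback ((r ≫ pullback.fst q q) ≫ q ≫ f) γ :=
      pullback.lift (pullback.snd m₀ r) (pullback.fst m₀ r ≫ pullback.fst qk qk ≫ pullback.snd (q ≫ f) γ)
        (by simpa only [Category.assoc] using hcond)
    have hs : pullback.fst qk qk ≫ pullback.snd (q ≫ f) γ = pullback.snd qk qk ≫ pullback.snd (q ≫ f) γ := by
      have := congrArg (· ≫ pullback.snd f γ) (pullback.condition (f := qk) (g := qk))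
      simpa [qk] using this
    refine ⟨τ.base v, ?_, ?_⟩
    · rw [← hza, ← hv, ← Scheme.Hom.comp_apply, ← Scheme.Hom.comp_apply]
      refine congrArg (fun φ : pullback m₀ r ⟶ pullback (q ≫ f) γ => φ.base v) (pullback.hom_ext ?_ ?_)
      · simp only [τ, Category.assoc, pullback.lift_fst, pullback.lift_fst_assoc]
        rw [← reassoc_of% (pullback.condition (f := m₀) (g := r))]
        simp [m₀]
        rfl
      · simp [τ]
        rfl
    · rw [← hzb, ← hv, ← Scheme.Hom.comp_apply, ← Scheme.Hom.comp_apply]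
      refine congrArg (fun φ : pullback m₀ r ⟶ pullback (q ≫ f) γ => φ.base v) (pullback.hom_ext ?_ ?_)
      · simp only [τ, Category.assoc, pullback.lift_fst, pullback.lift_fst_assoc]
        rw [← reassoc_of% (pullback.condition (f := m₀) (g := r))]
        simp [m₀]
        rfl
      · simp [τ, hs]
        rfl

end Groth.Agent.GeomComp
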