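import Groth.Agent.GeomComp.AtlasConst
import Groth.Agent.GeomComp.AtlasModel
import Groth.Agent.GeomComp.AlgModel

/-!
# Geometric component counts of the fibres of a finitely presented scheme over an affine base

They factor through the spectrum of a Noetherian subring, where they are constant on a dense open of
the closure of every point.
-/

set_option autoImplicit false
set_option linter.style.haveILetI false
set_option linter.unusedSectionVars false
set_option maxHeartbeats 1000000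
set_option synthInstance.maxHeartbeats 100000

universe u

open CategoryTheory CategoryTheory.Limits AlgebraicGeometry TensorProduct

namespace Groth.Agent.GeomComp

/-- Base change of algebra maps. -/
noncomputable abbrev bcMap (A k : Type u) [CommRing A] [CommRing k] [Algebra A k] {C D : Type u} [CommRing C]
    [CommRing D] [Algebra A C] [Algebra A D] (φ : C →ₐ[A] D) :
    Spec (CommRingCat.of (k ⊗[A] D)) ⟶ Spec (CommRingCat.of (k ⊗[A] C)) :=
  Spec.map (CommRingCat.ofHom (Algebra.TensorProduct.map (AlgHom.id A k) φ).toRingHom)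

/-- The spectrum of a base change as a pullback. -/
noncomputable def specPullback (A k C : Type u) [CommRing A] [CommRing k] [CommRing C] [Algebra A k] [Algebra A C]
    (h : Spec (CommRingCat.of C) ⟶ Spec (CommRingCat.of A)) (hh : h = Spec.map (CommRingCat.ofHom (algebraMap A C))) :
    Spec (CommRingCat.of (k ⊗[A] C)) ≅ pullback h (Spec.map (CommRingCat.ofHom (algebraMap A k))) :=
  (pullbackSpecIso A k C).symm ≪≫ pullbackSymmetry _ _ ≪≫ pullback.congrHom hh.symm rfl

@[reassoc]
theorem specPullback_fst (A k C : Type u) [CommRing A] [CommRing k] [CommRing C] [Algebra A k] [Algebra A C]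
    (h : Spec (CommRingCat.of C) ⟶ Spec (CommRingCat.of A)) (hh : h = Spec.map (CommRingCat.ofHom (algebraMap A C))) :
    (specPullback A k C h hh).hom ≫ pullback.fst _ _ =
      Spec.map (CommRingCat.ofHom (Algebra.TensorProduct.includeRight (R := A) (A := k) (B := C)).toRingHom) := by
  subst hh
  simp only [specPullback, Iso.trans_hom, Iso.symm_hom, Category.assoc, pullback.congrHom_hom]
  rw [pullback.lift_fst, Category.comp_id, pullbackSymmetry_hom_comp_fst]
  exact pullbackSpecIso_inv_snd A k C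

@[reassoc]
theorem specPullback_snd (A k C : Type u) [CommRing A] [CommRing k] [CommRing C] [Algebra A k] [Algebra A C]
    (h : Spec (CommRingCat.of C) ⟶ Spec (CommRingCat.of A)) (hh : h = Spec.map (CommRingCat.ofHom (algebraMap A C))) :
    (specPullback A k C h hh).hom ≫ pullback.snd _ _ =
      Spec.map (CommRingCat.ofHom (algebraMap k (k ⊗[A] C))) := by
  subst hh
  simp only [specPullback, Iso.trans_hom, Iso.symm_hom, Category.assoc, pullback.congrHom_hom]
  rw [pullback.lift_snd, Category.comp_id, pullbackSymmetry_hom_comp_snd]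
  exact pullbackSpecIso_inv_fst' A k C

/-- An atlas over `A` gives atlases of the fibres. -/
theorem isAtlas_fibre {A C D : Type u} [CommRing A] [CommRing C] [CommRing D] [Algebra A C] [Algebra A D]
    {X : Scheme.{u}} (f : X ⟶ Spec (CommRingCat.of A)) (q : Spec (CommRingCat.of C) ⟶ X) [Flat q]
    [LocallyOfFinitePresentation q] [Surjective q] (r : Spec (CommRingCat.of D) ⟶ pullback q q) [Flat r]
    [Surjective r] (φ₁ φ₂ : C →ₐ[A] D) (hq : q ≫ f = Spec.map (CommRingCat.ofHom (algebraMap A C)))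
    (h₁ : r ≫ pullback.fst q q = Spec.map (CommRingCat.ofHom φ₁.toRingHom))
    (h₂ : r ≫ pullback.snd q q = Spec.map (CommRingCat.ofHom φ₂.toRingHom))
    (k : Type u) [CommRing k] [Algebra A k] :
    ∃ qk : Spec (CommRingCat.of (k ⊗[A] C)) ⟶ pullback f (Spec.map (CommRingCat.ofHom (algebraMap A k))),
      IsAtlas (bcMap A k φ₁) (bcMap A k φ₂) qk := by
  have hD : (r ≫ pullback.fst q q) ≫ q ≫ f = Spec.map (CommRingCat.ofHom (algebraMap A D)) := by
    rw [h₁, hq, ← Spec.map_comp, ← CommRingCat.ofHom_comp]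
    congr 2
    exact φ₁.comp_algebraMap
  let γ := Spec.map (CommRingCat.ofHom (algebraMap A k))
  let eP := specPullback A k C (q ≫ f) hq
  let eQ := specPullback A k D ((r ≫ pullback.fst q q) ≫ q ≫ f) hD
  have key : ∀ (φ : C →ₐ[A] D) (m : Spec (CommRingCat.of D) ⟶ Spec (CommRingCat.of C))
      (hm : m = Spec.map (CommRingCat.ofHom φ.toRingHom)) (w : ((r ≫ pullback.fst q q) ≫ q ≫ f) ≫ 𝟙 _ = m ≫ q ≫ f)
      (w' : γ ≫ 𝟙 _ = 𝟙 _ ≫ γ),
      bcMap A k φ ≫ eP.hom = eQ.hom ≫ pullback.map ((r ≫ pullback.fst q q) ≫ q ≫ f) γ (q ≫ f) γ m (𝟙 _) (𝟙 _) w w' := by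
    intro φ m hm w w'
    refine pullback.hom_ext ?_ ?_
    · rw [Category.assoc, Category.assoc, pullback.lift_fst, specPullback_fst, specPullback_fst_assoc]
      subst hm
      rw [← Spec.map_comp, ← Spec.map_comp]
      congr 1
    · rw [Category.assoc, Category.assoc, pullback.lift_snd, Category.comp_id, specPullback_snd, specPullback_snd,
        ← Spec.map_comp]
      congr 1
      refine CommRingCat.hom_ext (RingHom.ext fun x => ?_)
      show Algebra.TensorProduct.map (AlgHom.id A k) φ (x ⊗ₜ 1) = x ⊗ₜ 1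
      rw [Algebra.TensorProduct.map_tmul, map_one]
      rfl
  exact ⟨_, (isAtlas_baseChange q f r γ).of_iso eP eQ (key φ₁ _ h₁ _ _) (key φ₂ _ h₂ _ _)⟩

/-- A commuting square of rings gives one of spectra. -/
theorem spec_natural {R S R' S' : Type u} [CommRing R] [CommRing S] [CommRing R'] [CommRing S'] (Φ : R' ≃+* R)
    (Ψ : S' ≃+* S) (g : R' →+* S') (h : R →+* S) (H : ∀ z, Ψ (g z) = h (Φ z)) :
    Spec.map (CommRingCat.ofHom g) ≫ (Scheme.Spec.mapIso Φ.symm.toCommRingCatIso.op).hom =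
      (Scheme.Spec.mapIso Ψ.symm.toCommRingCatIso.op).hom ≫ Spec.map (CommRingCat.ofHom h) := by
  show Spec.map _ ≫ Spec.map (CommRingCat.ofHom Φ.symm.toRingHom) =
    Spec.map (CommRingCat.ofHom Ψ.symm.toRingHom) ≫ Spec.map _
  rw [← Spec.map_comp, ← Spec.map_comp]
  congr 1
  refine CommRingCat.hom_ext (RingHom.ext fun x => ?_)
  show g (Φ.symm x) = Ψ.symm (h x)
  rw [Ψ.eq_symm_apply, H, Φ.apply_symm_apply]

section Model

variable (A₀ A B k : Type u) [CommRing A₀] [CommRing A] [CommRing B] [CommRing k] [Algebra A₀ A] [Algebra A₀ B]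
  [Algebra A₀ k] [Algebra A k] [Algebra B k] [IsScalarTower A₀ A k] [IsScalarTower A₀ B k]
  {C₀ C : Type u} [CommRing C₀] [Algebra A₀ C₀] [CommRing C] [Algebra A C]

/-- The fibre of a model is the fibre. -/
noncomputable def modelEquiv (eC : A ⊗[A₀] C₀ ≃ₐ[A] C) : k ⊗[B] (B ⊗[A₀] C₀) ≃ₐ[k] k ⊗[A] C :=
  (Algebra.TensorProduct.cancelBaseChange A₀ B k k C₀).trans
    ((Algebra.TensorProduct.cancelBaseChange A₀ A k k C₀).symm.trans (Algebra.TensorProduct.congr AlgEquiv.refl eC))

theorem modelEquiv_tmul (eC : A ⊗[A₀] C₀ ≃ₐ[A] C) (c : k) (b : B) (x : C₀) :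
    modelEquiv A₀ A B k eC (c ⊗ₜ (b ⊗ₜ x)) = (b • c) ⊗ₜ eC (1 ⊗ₜ x) := by
  simp [modelEquiv]

theorem modelEquiv_natural {D₀ D : Type u} [CommRing D₀] [Algebra A₀ D₀] [CommRing D] [Algebra A D]
    (eC : A ⊗[A₀] C₀ ≃ₐ[A] C) (eD : A ⊗[A₀] D₀ ≃ₐ[A] D) (φ : C →ₐ[A] D) (ψ : C₀ →ₐ[A₀] D₀)
    (he : ∀ z, eD (Algebra.TensorProduct.map (AlgHom.id A A) ψ z) = φ (eC z)) (z : k ⊗[B] (B ⊗[A₀] C₀)) :
    modelEquiv A₀ A B k eD
        (Algebra.TensorProduct.map (AlgHom.id B k) (Algebra.TensorProduct.map (AlgHom.id B B) ψ) z) =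
      Algebra.TensorProduct.map (AlgHom.id A k) φ (modelEquiv A₀ A B k eC z) := by
  induction z using TensorProduct.induction_on with
  | zero => simp
  | add u v hu hv => simp only [map_add, hu, hv]
  | tmul c w =>
    induction w using TensorProduct.induction_on with
    | zero => simp
    | add u v hu hv => simp only [TensorProduct.tmul_add, map_add, hu, hv]
    | tmul b x =>
      have h := he ((1 : A) ⊗ₜ x)
      simp only [Algebra.TensorProduct.map_tmul, AlgHom.id_apply] at h
      simp only [Algebra.TensorProduct.map_tmul, AlgHom.id_apply, modelEquiv_tmul, h]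

end Model

/-- **The geometric component counts come from a Noetherian ring, and are constant near each of its points.** -/
theorem exists_model_const {A : Type u} [CommRing A] {X : Scheme.{u}} (f : X ⟶ Spec (CommRingCat.of A))
    [LocallyOfFinitePresentation f] [QuasiCompact f] [QuasiSeparated f] :
    ∃ (A₀ : Type u) (_ : CommRing A₀) (_ : Algebra A₀ A), IsNoetherianRing A₀ ∧ ∀ P : PrimeSpectrum A₀,
      ∃ (a : A₀) (n m : ℕ∞), a ∉ P.asIdeal ∧ ∀ y : Spec (CommRingCat.of A),
        P.asIdeal ≤ y.asIdeal.comap (algebraMap A₀ A) → algebraMap A₀ A a ∉ y.asIdeal →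
          MoreMor.nGeomIrredComp f y = n ∧ MoreMor.nGeomConnComp f y = m := by
  classical
  haveI : CompactSpace X := QuasiCompact.compactSpace_of_compactSpace f
  haveI : QuasiSeparatedSpace X := quasiSeparatedSpace_of_quasiSeparated f
  obtain ⟨U, q₀, _, _, _, _⟩ := exists_affine_cover X
  haveI : QuasiCompact q₀ := inferInstance
  haveI : CompactSpace ↥(pullback q₀ q₀) := QuasiCompact.compactSpace_of_compactSpace (pullback.fst q₀ q₀)
  let q : Spec Γ(U, ⊤) ⟶ X := U.isoSpec.inv ≫ q₀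
  haveI : Flat q := inferInstance
  haveI : LocallyOfFinitePresentation q := inferInstance
  haveI : Surjective q := inferInstance
  haveI : CompactSpace ↥(pullback q q) := QuasiCompact.compactSpace_of_compactSpace (pullback.fst q q)
  obtain ⟨R, r₀, _, _, _, _⟩ := exists_affine_cover (pullback q q)
  let r : Spec Γ(R, ⊤) ⟶ pullback q q := R.isoSpec.inv ≫ r₀
  let C : Type u := Γ(U, ⊤)
  let D : Type u := Γ(R, ⊤)
  let π : CommRingCat.of A ⟶ Γ(U, ⊤) := Spec.preimage (q ≫ f)
  let ρ₁ : Γ(U, ⊤) ⟶ Γ(R, ⊤) := Spec.preimage (r ≫ pullback.fst q q)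
  let ρ₂ : Γ(U, ⊤) ⟶ Γ(R, ⊤) := Spec.preimage (r ≫ pullback.snd q q)
  letI : Algebra A C := π.hom.toAlgebra
  letI : Algebra A D := (π ≫ ρ₁).hom.toAlgebra
  have hπ : Spec.map π = q ≫ f := Spec.map_preimage _
  have hρ₂ : π ≫ ρ₂ = π ≫ ρ₁ := Spec.map_injective (by
    rw [Spec.map_comp, Spec.map_comp, Spec.map_preimage, Spec.map_preimage, Spec.map_preimage, Category.assoc,
      Category.assoc, ← pullback.condition_assoc]
    simp only [r, Category.assoc])
  let φ₁ : C →ₐ[A] D := { ρ₁.hom with commutes' := fun _ => rfl }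
  let φ₂ : C →ₐ[A] D := { ρ₂.hom with commutes' := fun a => congr($(hρ₂).hom a) }
  haveI : Algebra.FinitePresentation A C := by
    have : LocallyOfFinitePresentation (Spec.map π) := hπ ▸ inferInstance
    exact (HasRingHomProperty.Spec_iff (P := @LocallyOfFinitePresentation)).1 this
  haveI : Algebra.FinitePresentation A D := by
    have : LocallyOfFinitePresentation (Spec.map (π ≫ ρ₁)) := by
      rw [Spec.map_comp, Spec.map_preimage, Spec.map_preimage]
      simp only [r, Category.assoc]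
      infer_instance
    exact (HasRingHomProperty.Spec_iff (P := @LocallyOfFinitePresentation)).1 this
  obtain ⟨A₀, _, _, hN, C₀, D₀, _, _, _, _, _, _, ψ₁, ψ₂, eC, eD, he₁, he₂⟩ := exists_alg_model φ₁ φ₂
  refine ⟨A₀, inferInstance, inferInstance, hN, fun P => ?_⟩
  let B := A₀ ⧸ P.asIdeal
  obtain ⟨a, n, m, ha, hconst⟩ := exists_const_atlas (A := B) (C := B ⊗[A₀] C₀) (D := B ⊗[A₀] D₀)
    (Algebra.TensorProduct.map (AlgHom.id B B) ψ₁) (Algebra.TensorProduct.map (AlgHom.id B B) ψ₂)
  obtain ⟨a, rfl⟩ := Ideal.Quotient.mk_surjective a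
  refine ⟨a, n, m, fun h => ha (Ideal.Quotient.eq_zero_iff_mem.2 h), fun y hPy hay => ?_⟩
  haveI : y.asIdeal.IsPrime := y.2
  suffices H : ∀ (k : Type u) [Field k] [IsAlgClosed k] [Algebra A k], (∀ x : A, algebraMap A k x = 0 ↔ x ∈ y.asIdeal) →
      MoreMor.nGeomIrredComp f y = n ∧ MoreMor.nGeomConnComp f y = m from
    H (AlgebraicClosure y.asIdeal.ResidueField) fun x => by
      rw [IsScalarTower.algebraMap_apply A y.asIdeal.ResidueField, map_eq_zero, Ideal.algebraMap_residueField_eq_zero]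
  intro k _ _ _ hker
  letI : Algebra A₀ k := ((algebraMap A k).comp (algebraMap A₀ A)).toAlgebra
  haveI : IsScalarTower A₀ A k := .of_algebraMap_eq fun _ => rfl
  letI : Algebra B k := (Ideal.Quotient.lift P.asIdeal (algebraMap A₀ k) fun x hx => (hker _).2 (hPy hx)).toAlgebra
  haveI : IsScalarTower A₀ B k := .of_algebraMap_eq fun _ => rfl
  obtain ⟨qk, hqk⟩ := isAtlas_fibre f q r φ₁ φ₂ hπ.symm
    (Spec.map_preimage _).symm (Spec.map_preimage _).symm k
  let ΦC := modelEquiv A₀ A B k eC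
  let ΦD := modelEquiv A₀ A B k eD
  let eP : Spec (CommRingCat.of (k ⊗[B] (B ⊗[A₀] C₀))) ≅ Spec (CommRingCat.of (k ⊗[A] C)) :=
    Scheme.Spec.mapIso ΦC.toRingEquiv.symm.toCommRingCatIso.op
  let eQ : Spec (CommRingCat.of (k ⊗[B] (B ⊗[A₀] D₀))) ≅ Spec (CommRingCat.of (k ⊗[A] D)) :=
    Scheme.Spec.mapIso ΦD.toRingEquiv.symm.toCommRingCatIso.op
  have key : ∀ (φ : C →ₐ[A] D) (ψ : C₀ →ₐ[A₀] D₀),
      (∀ z, eD (Algebra.TensorProduct.map (AlgHom.id A A) ψ z) = φ (eC z)) →
      bcMap B k (Algebra.TensorProduct.map (AlgHom.id B B) ψ) ≫ eP.hom = eQ.hom ≫ bcMap A k φ := by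
    intro φ ψ he
    exact spec_natural ΦC.toRingEquiv ΦD.toRingEquiv
      (Algebra.TensorProduct.map (AlgHom.id B k) (Algebra.TensorProduct.map (AlgHom.id B B) ψ)).toRingHom
      (Algebra.TensorProduct.map (AlgHom.id A k) φ).toRingHom (modelEquiv_natural A₀ A B k eC eD φ ψ he)
  obtain ⟨hI, hC⟩ := hconst k (by
    show algebraMap A k (algebraMap A₀ A a) ≠ 0
    exact fun h => hay ((hker _).1 h)) _ _ (hqk.of_iso eP eQ (key φ₁ ψ₁ he₁) (key φ₂ ψ₂ he₂))
  obtain ⟨hI', hC'⟩ := count_pt f (Spec.map (CommRingCat.ofHom (algebraMap A k))) (IsLocalRing.closedPoint k)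
  have hp : (Spec.map (CommRingCat.ofHom (algebraMap A k))).base (IsLocalRing.closedPoint k) = y :=
    PrimeSpectrum.ext (Ideal.ext fun x => by
      show algebraMap A k x ∈ IsLocalRing.maximalIdeal k ↔ _
      rw [IsLocalRing.mem_maximalIdeal, mem_nonunits_iff, isUnit_iff_ne_zero, not_not, hker])
  rw [hp] at hI' hC'
  exact ⟨hI'.symm.trans hI, hC'.symm.trans hC⟩

end Groth.Agent.GeomComp
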