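import Groth.Agent.GeomUnib.IntegralSpread

/-!
# A finite extension of the base splitting the geometric components

For an algebra of finite type over a Noetherian domain `A` there is a finite extension domain `A'`
over which all components of the generic fibre are geometrically integral, so that their fibres
over a dense open of `Spec A'` are integral.
-/

set_option autoImplicit false
set_option linter.style.haveILetI false
set_option linter.unusedSectionVars false
set_option maxHeartbeats 1000000
set_option synthInstance.maxHeartbeats 200000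

universe u

open TensorProduct

namespace Groth.Agent.GeomComp

variable (A : Type u) [CommRing A] [IsDomain A]

/-- An algebraic closure of the fraction field. -/
abbrev Omega : Type u := AlgebraicClosure (FractionRing A)

instance : Algebra.IsAlgebraic A (Omega A) :=
  (IsFractionRing.comap_isAlgebraic_iff (A := A) (K := FractionRing A) (C := Omega A)).2 inferInstance

lemma algebraMap_omega_injective : Function.Injective (algebraMap A (Omega A)) := by
  rw [IsScalarTower.algebraMap_eq A (FractionRing A) (Omega A), RingHom.coe_comp]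
  exact (algebraMap (FractionRing A) (Omega A)).injective.comp (IsFractionRing.injective A (FractionRing A))

variable {A} {C : Type u} [CommRing C] [Algebra A C]

/-- The base change to the algebraic closure. -/
noncomputable abbrev incl (T : Type u) [CommRing T] [Algebra A T] [Algebra T (Omega A)] [IsScalarTower A T (Omega A)] :
    T ⊗[A] C →ₐ[A] Omega A ⊗[A] C :=
  Algebra.TensorProduct.map (IsScalarTower.toAlgHom A T (Omega A)) (AlgHom.id A C)

lemma exists_gen_elem (x : Omega A ⊗[A] C) :
    ∃ s : Finset (Omega A), (∀ w ∈ s, IsIntegral A w) ∧ ∀ T : Subalgebra A (Omega A), ↑s ⊆ (T : Set (Omega A)) →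
      ∃ a : A, a ≠ 0 ∧ a • x ∈ Set.range (incl (A := A) (C := C) T) := by
  classical
  induction x using TensorProduct.induction_on with
  | zero => exact ⟨∅, by simp, fun T _ => ⟨1, one_ne_zero, 0, by simp⟩⟩
  | tmul w c =>
    obtain ⟨a, ha, hint⟩ := (Algebra.IsAlgebraic.isAlgebraic (R := A) w).exists_integral_multiple
    refine ⟨{a • w}, fun v hv => by rw [Finset.mem_singleton.1 hv]; exact hint, fun T hT => ⟨a, ha, ?_⟩⟩
    exact ⟨(⟨a • w, hT (by simp)⟩ : T) ⊗ₜ c, by rw [TensorProduct.smul_tmul']; rfl⟩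
  | add x y hx hy =>
    obtain ⟨s, hs, hs'⟩ := hx
    obtain ⟨t, ht, ht'⟩ := hy
    refine ⟨s ∪ t, fun v hv => (Finset.mem_union.1 hv).elim (hs v) (ht v), fun T hT => ?_⟩
    obtain ⟨a, ha, u, hu⟩ := hs' T fun v hv => hT (Finset.mem_union_left _ hv)
    obtain ⟨b, hb, v, hv⟩ := ht' T fun v hv => hT (Finset.mem_union_right _ hv)
    refine ⟨a * b, mul_ne_zero ha hb, b • u + a • v, ?_⟩
    rw [map_add, map_smul, map_smul, hu, hv, smul_add, smul_smul, smul_smul, mul_comm b a]

/-- The minimal primes over the algebraic closure are defined at a finite level. -/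
theorem exists_split [IsNoetherianRing A] [Algebra.FiniteType A C] :
    ∃ s : Finset (Omega A), (∀ w ∈ s, IsIntegral A w) ∧ ∀ T : Subalgebra A (Omega A), ↑s ⊆ (T : Set (Omega A)) →
      ∀ Q ∈ minimalPrimes (Omega A ⊗[A] C), Q ≤ (Q.comap (incl (A := A) (C := C) T).toRingHom).map (incl (A := A) (C := C) T).toRingHom := by
  classical
  haveI : IsNoetherianRing (Omega A ⊗[A] C) := Algebra.FiniteType.isNoetherianRing (Omega A) _
  have hfin : (minimalPrimes (Omega A ⊗[A] C)).Finite := minimalPrimes.finite_of_isNoetherianRing _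
  have hgen : ∀ Q : Ideal (Omega A ⊗[A] C), ∃ g : Finset (Omega A ⊗[A] C), Ideal.span ↑g = Q := fun Q =>
    IsNoetherian.noetherian Q
  choose g hg using hgen
  choose s hs hs' using exists_gen_elem (A := A) (C := C)
  refine ⟨(hfin.toFinset.biUnion g).biUnion s, fun w hw => ?_, fun T hT Q hQ => ?_⟩
  · obtain ⟨x, -, hx⟩ := Finset.mem_biUnion.1 hw
    exact hs x w hx
  · refine le_of_eq_of_le (hg Q).symm (Ideal.span_le.2 fun x hx => ?_)
    obtain ⟨a, ha, u, hu⟩ := hs' x T fun w hw =>
      hT (Finset.mem_biUnion.2 ⟨x, Finset.mem_biUnion.2 ⟨Q, hfin.mem_toFinset.2 hQ, hx⟩, hw⟩)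
    have hxQ : x ∈ Q := hg Q ▸ Ideal.subset_span hx
    have hu' : u ∈ Q.comap (incl (A := A) (C := C) T).toRingHom := by
      show incl (A := A) T u ∈ Q
      rw [hu, Algebra.smul_def]
      exact Q.mul_mem_left _ hxQ
    have hunit : IsUnit (algebraMap A (Omega A ⊗[A] C) a) := by
      rw [IsScalarTower.algebraMap_apply A (Omega A) (Omega A ⊗[A] C)]
      exact (Ne.isUnit ((map_ne_zero_iff _ (algebraMap_omega_injective A)).2 ha)).map _
    show x ∈ _
    rw [← hunit.unit.inv_mul_cancel_left x]
    refine Ideal.mul_mem_left _ _ ?_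
    rw [show ((hunit.unit : (Omega A ⊗[A] C)ˣ) : Omega A ⊗[A] C) * x = a • x from (Algebra.smul_def a x).symm, ← hu]
    exact Ideal.mem_map_of_mem _ hu'

/-- Over the splitting extension the components of the generic fibre spread to integral fibres. -/
theorem exists_noZeroDivisors_of_split [IsNoetherianRing A] [Algebra.FiniteType A C] (T : Type u)
    [CommRing T] [IsDomain T] [Algebra A T] [Algebra T (Omega A)] [IsScalarTower A T (Omega A)] [FaithfulSMul T (Omega A)]
    [Module.Finite A T]
    (hsplit : ∀ Q ∈ minimalPrimes (Omega A ⊗[A] C), Q ≤ (Q.comap (incl (A := A) (C := C) T).toRingHom).map (incl (A := A) (C := C) T).toRingHom)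
    (q : Ideal (T ⊗[A] C)) [q.IsPrime] (hq : q.comap (algebraMap T (T ⊗[A] C)) = ⊥)
    (hmin : ∀ q' : Ideal (T ⊗[A] C), q'.IsPrime → q' ≤ q → q'.comap (algebraMap T (T ⊗[A] C)) = ⊥ → q' = q) :
    ∃ a : T, a ≠ 0 ∧ ∀ (k : Type u) [Field k] [Algebra T k], algebraMap T k a ≠ 0 →
      NoZeroDivisors (k ⊗[T] ((T ⊗[A] C) ⧸ q)) := by
  classical
  haveI : IsNoetherianRing T := Algebra.FiniteType.isNoetherianRing A T
  let Ω := Omega A
  let ι := incl (A := A) (C := C) T
  let C' := T ⊗[A] C
  let D := C' ⧸ q
  have hinjT : Function.Injective (algebraMap T D) := by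
    rw [injective_iff_map_eq_zero]
    intro t ht
    have : t ∈ q.comap (algebraMap T C') := Ideal.mem_comap.2 (Ideal.Quotient.eq_zero_iff_mem.1
      (show Ideal.Quotient.mk q (algebraMap T C' t) = 0 from ht))
    rwa [hq, Ideal.mem_bot] at this
  haveI : Algebra.IsAlgebraic T Ω := Algebra.IsAlgebraic.extendScalars (R := A) (S := T)
    (fun a b h => algebraMap_omega_injective A (by
      rw [IsScalarTower.algebraMap_apply A T (Omega A), IsScalarTower.algebraMap_apply A T (Omega A), h]))
  -- a minimal prime over `q`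
  obtain ⟨Q, hQ, hQq⟩ : ∃ Q ∈ minimalPrimes (Ω ⊗[A] C), Q.comap ι.toRingHom = q := by
    let κ := AlgebraicClosure (FractionRing D)
    haveI : FaithfulSMul T κ := (faithfulSMul_iff_algebraMap_injective T κ).2 (by
      rw [IsScalarTower.algebraMap_eq T D κ, RingHom.coe_comp, IsScalarTower.algebraMap_eq D (FractionRing D) κ,
        RingHom.coe_comp]
      exact (RingHom.injective _).comp (IsFractionRing.injective D (FractionRing D)) |>.comp hinjT)
    haveI : Module.IsTorsionFree T Ω := Module.IsTorsionFree.trans_faithfulSMul T Ω Ω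
    let θ : Ω →ₐ[T] κ := IsAlgClosed.lift
    let μ : C →ₐ[A] κ := ((IsScalarTower.toAlgHom A D κ).comp (Ideal.Quotient.mkₐ A q)).comp
      Algebra.TensorProduct.includeRight
    let χ : Ω ⊗[A] C →ₐ[A] κ := Algebra.TensorProduct.lift (θ.restrictScalars A) μ fun _ _ => .all _ _
    have hχ : ∀ z : C', χ (ι z) = algebraMap D κ (Ideal.Quotient.mk q z) := by
      intro z
      induction z using TensorProduct.induction_on with
      | zero => simp
      | add x y hx hy => rw [map_add, map_add, hx, hy, map_add, map_add]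
      | tmul t c =>
        show θ (algebraMap T Ω t) * μ c = _
        rw [θ.commutes, show (t ⊗ₜ[A] c : C') = algebraMap T C' t * (1 ⊗ₜ c) by simp [C'], map_mul, map_mul,
          IsScalarTower.algebraMap_apply T D κ]
        rfl
    haveI : (RingHom.ker χ.toRingHom).IsPrime := RingHom.ker_isPrime _
    obtain ⟨Q, hQ, hQle⟩ := Ideal.exists_minimalPrimes_le (I := ⊥) (J := RingHom.ker χ.toRingHom) bot_le
    haveI : Q.IsPrime := hQ.1.1
    refine ⟨Q, hQ, hmin _ inferInstance (fun z hz => ?_) (le_bot_iff.1 fun t ht => ?_)⟩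
    · have h1 : χ (ι z) = 0 := hQle hz
      rw [hχ, map_eq_zero_iff _ (by
        rw [IsScalarTower.algebraMap_eq D (FractionRing D) κ, RingHom.coe_comp]
        exact (RingHom.injective _).comp (IsFractionRing.injective D (FractionRing D))),
        Ideal.Quotient.eq_zero_iff_mem] at h1
      exact h1
    · by_contra h0
      refine hQ.1.1.ne_top (Ideal.eq_top_of_isUnit_mem _ ht ?_)
      have : ι (algebraMap T C' t) = algebraMap Ω (Ω ⊗[A] C) (algebraMap T Ω t) := by simp [ι, incl, C']; rfl
      show IsUnit (ι (algebraMap T C' t))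
      rw [this]
      exact (Ne.isUnit fun h => h0 (FaithfulSMul.algebraMap_injective T Ω (h.trans (map_zero _).symm))).map _
  haveI : Q.IsPrime := hQ.1.1
  have hQgen : Q ≤ q.map ι.toRingHom := hQq ▸ hsplit Q hQ
  -- the field `P` containing everything
  let P := FractionRing ((Ω ⊗[A] C) ⧸ Q)
  let π : Ω ⊗[A] C →+* P := (algebraMap _ P).comp (Ideal.Quotient.mk Q)
  have hπ : ∀ x, π x = 0 ↔ x ∈ Q := fun x => by
    rw [RingHom.comp_apply, map_eq_zero_iff _ (IsFractionRing.injective _ P), Ideal.Quotient.eq_zero_iff_mem]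
  let πD : D →+* P := Ideal.Quotient.lift q (π.comp ι.toRingHom) fun z hz => (hπ _).2 (by
    rw [← hQq] at hz; exact hz)
  have hπD : Function.Injective πD := RingHom.lift_injective_of_ker_le_ideal q _ fun z hz => by
    rw [← hQq]; exact (hπ _).1 hz
  let L := FractionRing T
  let F := FractionRing D
  haveI : FaithfulSMul T F := (faithfulSMul_iff_algebraMap_injective T F).2 (by
    rw [IsScalarTower.algebraMap_eq T D F, RingHom.coe_comp]
    exact (IsFractionRing.injective D F).comp hinjT)
  letI : Algebra L F := FractionRing.liftAlgebra T F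
  haveI : IsScalarTower T L F := FractionRing.isScalarTower_liftAlgebra T F
  let Λ := AlgebraicClosure L
  haveI : Algebra.IsAlgebraic T Λ := (IsFractionRing.comap_isAlgebraic_iff (A := T) (K := L) (C := Λ)).2 inferInstance
  let πF : F →+* P := IsFractionRing.lift hπD
  let πΩ : Ω →+* P := π.comp (algebraMap Ω (Ω ⊗[A] C))
  have hT : ∀ t : T, πF (algebraMap T F t) = πΩ (algebraMap T Ω t) := fun t => by
    rw [IsScalarTower.algebraMap_apply T D F, IsFractionRing.lift_algebraMap]
    show π (ι (algebraMap T C' t)) = π _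
    simp [ι, incl, C']; rfl
  haveI : Module.IsTorsionFree T Ω := Module.IsTorsionFree.trans_faithfulSMul T Ω Ω
  haveI : FaithfulSMul T Λ := (faithfulSMul_iff_algebraMap_injective T Λ).2 (by
    rw [IsScalarTower.algebraMap_eq T L Λ, RingHom.coe_comp]
    exact (RingHom.injective _).comp (IsFractionRing.injective T L))
  haveI : Module.IsTorsionFree T Λ := Module.IsTorsionFree.trans_faithfulSMul T Λ Λ
  let θ : Λ →ₐ[T] Ω := IsAlgClosed.lift
  let θ' : Ω →ₐ[T] Λ := IsAlgClosed.lift
  let ψ := θ.comp θ'
  have hψ : Function.Bijective ψ := Algebra.IsAlgebraic.algHom_bijective ψ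
  have hθ : Function.Bijective θ := ⟨θ.toRingHom.injective, fun w => by
    obtain ⟨v, hv⟩ := hψ.2 w
    exact ⟨θ' v, hv⟩⟩
  let e : Ω →ₐ[T] Λ := (AlgEquiv.ofBijective θ hθ).symm.toAlgHom
  letI : Algebra L P := (πF.comp (algebraMap L F)).toAlgebra
  let πΛ : Λ →+* P := πΩ.comp θ.toRingHom
  have hL : πΛ.comp (algebraMap L Λ) = algebraMap L P := IsLocalization.ringHom_ext (nonZeroDivisors T) <| by
    ext t
    show πΩ (θ (algebraMap L Λ (algebraMap T L t))) = πF (algebraMap L F (algebraMap T L t))
    rw [← IsScalarTower.algebraMap_apply, ← IsScalarTower.algebraMap_apply, θ.commutes, hT]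
  let fΛ : Λ →ₐ[L] P := { πΛ with commutes' := fun l => RingHom.congr_fun hL l }
  let fF : F →ₐ[L] P := { πF with commutes' := fun l => rfl }
  let χ : Λ ⊗[L] F →ₐ[L] P := Algebra.TensorProduct.lift fΛ fF fun _ _ => .all _ _
  have hχ : ∀ (v : Λ) (y : F), χ (v ⊗ₜ y) = πΛ v * πF y := fun v y => rfl
  let m : Ω ⊗[A] C →ₐ[A] Λ ⊗[L] F := Algebra.TensorProduct.lift
    (((Algebra.TensorProduct.includeLeft : Λ →ₐ[L] Λ ⊗[L] F).restrictScalars A).comp (e.restrictScalars A))
    ((((Algebra.TensorProduct.includeRight : F →ₐ[L] Λ ⊗[L] F).restrictScalars A).comp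
      (IsScalarTower.toAlgHom A D F)).comp ((Ideal.Quotient.mkₐ A q).comp Algebra.TensorProduct.includeRight))
    fun _ _ => .all _ _
  have hm : ∀ (w : Ω) (c : C), m (w ⊗ₜ c) =
      e w ⊗ₜ algebraMap D F (Ideal.Quotient.mk q (1 ⊗ₜ c)) := fun w c => by simp [m]
  have hχm : ∀ x, χ (m x) = π x := by
    intro x
    induction x using TensorProduct.induction_on with
    | zero => simp
    | add x y hx hy => rw [map_add, map_add, hx, hy, map_add]
    | tmul w c =>
      rw [hm, hχ, IsFractionRing.lift_algebraMap]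
      show π (algebraMap Ω (Ω ⊗[A] C) (θ (e w))) * π (ι (1 ⊗ₜ c)) = _
      rw [show θ (e w) = w from (AlgEquiv.ofBijective θ hθ).apply_symm_apply w, ← map_mul]
      congr 1
      simp [ι, incl]
  have hmι : ∀ z : C', m (ι z) = 1 ⊗ₜ algebraMap D F (Ideal.Quotient.mk q z) := by
    intro z
    induction z using TensorProduct.induction_on with
    | zero => simp
    | add x y hx hy => rw [map_add, map_add, hx, hy, map_add, map_add, TensorProduct.tmul_add]
    | tmul t c =>
      show m (algebraMap T Ω t ⊗ₜ c) = _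
      rw [hm, e.commutes, show (t ⊗ₜ[A] c : C') = algebraMap T C' t * (1 ⊗ₜ c) by simp [C'], map_mul, map_mul,
        IsScalarTower.algebraMap_apply T L Λ, Algebra.algebraMap_eq_smul_one, TensorProduct.smul_tmul]
      congr 1
      rw [Algebra.smul_def, ← IsScalarTower.algebraMap_apply, IsScalarTower.algebraMap_apply T D F]
      rfl
  have hmQ : ∀ x ∈ Q, m x = 0 := fun x hx => by
    have : q.map ι.toRingHom ≤ RingHom.ker m.toRingHom := Ideal.map_le_iff_le_comap.2 fun z hz => by
      show m (ι z) = 0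
      rw [hmι, Ideal.Quotient.eq_zero_iff_mem.2 hz, map_zero, TensorProduct.tmul_zero]
    exact this (hQgen hx)
  have hden : ∀ g : Λ ⊗[L] F, ∃ (u : (Λ ⊗[L] F)ˣ) (w : Ω ⊗[A] C), g * u = m w ∧ ∃ w', m w' = (u : Λ ⊗[L] F) := by
    intro g
    induction g using TensorProduct.induction_on with
    | zero => exact ⟨1, 0, by simp, 1, map_one m⟩
    | add x y hx hy =>
      obtain ⟨a, wa, ha, va, hva⟩ := hx
      obtain ⟨b, wb, hb, vb, hvb⟩ := hy
      refine ⟨a * b, wa * vb + wb * va, ?_, va * vb, by rw [map_mul, hva, hvb]; rfl⟩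
      rw [map_add, map_mul, map_mul, hva, hvb, ← ha, ← hb, Units.val_mul]; ring
    | tmul v y =>
      obtain ⟨a, b, hb, rfl⟩ := IsFractionRing.div_surjective (A := D) y
      obtain ⟨a, rfl⟩ := Ideal.Quotient.mk_surjective a
      obtain ⟨b, rfl⟩ := Ideal.Quotient.mk_surjective b
      have hb' : algebraMap D F (Ideal.Quotient.mk q b) ≠ 0 := fun h =>
        nonZeroDivisors.ne_zero hb (IsFractionRing.injective D F (h.trans (map_zero _).symm))
      have hu : IsUnit (m (ι b)) := by
        rw [hmι]
        exact (Ne.isUnit hb').map (Algebra.TensorProduct.includeRight (R := L) (A := Λ))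
      refine ⟨hu.unit, (θ v ⊗ₜ 1) * ι a, ?_, ι b, rfl⟩
      rw [IsUnit.unit_spec, map_mul, hmι, hmι, hm]
      rw [show e (θ v) = v from (AlgEquiv.ofBijective θ hθ).symm_apply_apply v,
        show (Ideal.Quotient.mk q ((1 : T) ⊗ₜ[A] (1 : C))) = 1 from map_one _, map_one,
        Algebra.TensorProduct.tmul_mul_tmul, Algebra.TensorProduct.tmul_mul_tmul, mul_one, one_mul,
        div_mul_cancel₀ _ hb']
  have hχinj : Function.Injective χ := by
    rw [injective_iff_map_eq_zero]
    intro g hg
    obtain ⟨u, w, hw, -⟩ := hden g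
    have h1 : π w = 0 := by rw [← hχm, ← hw, map_mul, hg, zero_mul]
    rw [hmQ w ((hπ w).1 h1)] at hw
    exact (Units.mul_left_eq_zero u).1 hw
  haveI : IsDomain (Λ ⊗[L] F) := hχinj.isDomain
  haveI : Algebra.IsIntegral L Λ := Algebra.IsAlgebraic.isIntegral
  haveI : Algebra.IsGeometricallyReduced L F := (Algebra.isGeometricallyReduced_field_iff L F).2 inferInstance
  haveI : Subsingleton (PrimeSpectrum (Λ ⊗[L] F)) := by
    haveI : IsDomain (F ⊗[L] Λ) := (Algebra.TensorProduct.comm L Λ F).toMulEquiv.isDomain_iff.1 inferInstance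
    have h1 : IsField (F ⊗[L] Λ) := isField_of_isIntegral_of_isField' (Semifield.toIsField F)
    have h2 : IsField (Λ ⊗[L] F) := (Algebra.TensorProduct.comm L Λ F).toMulEquiv.isField h1
    letI := h2.toField
    exact inferInstanceAs (Subsingleton (PrimeSpectrum _))
  haveI : Algebra.FiniteType T D := inferInstance
  exact GeomUnib.IntegralSpread.exists_noZeroDivisors_fibre (A := T) (B := D) L F

end Groth.Agent.GeomComp
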