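import Groth.Agent.GeomComp.Split
import Groth.Agent.GeomIrr.Count

/-!
# The components of the fibres over a dense open

If all components of the generic fibre are geometrically integral and spread out to integral fibres,
then over a dense open the geometric fibres have the same components, meeting in the same way.
-/

set_option autoImplicit false
set_option linter.style.haveILetI false
set_option linter.unusedSectionVars false
set_option backward.isDefEq.respectTransparency false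
set_option maxHeartbeats 1000000
set_option synthInstance.maxHeartbeats 100000

universe u

open CategoryTheory CategoryTheory.Limits AlgebraicGeometry TensorProduct Topology

namespace Groth.Agent.GeomComp

/-- A constructible set of the spectrum of a domain contains or avoids a dense open. -/
theorem exists_basicOpen_of_isConstructible {T : Type u} [CommRing T] [IsDomain T] {S : Set (PrimeSpectrum T)}
    (hS : IsConstructible S) :
    ∃ a : T, a ≠ 0 ∧ ((PrimeSpectrum.basicOpen a : Set (PrimeSpectrum T)) ⊆ S ∨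
      (PrimeSpectrum.basicOpen a : Set (PrimeSpectrum T)) ⊆ Sᶜ) := by
  induction hS using IsConstructible.empty_union_induction with
  | open_retrocompact U hU _ =>
    rcases U.eq_empty_or_nonempty with rfl | ⟨P, hP⟩
    · exact ⟨1, one_ne_zero, Or.inr (by simp)⟩
    · obtain ⟨_, ⟨a, rfl⟩, ha, haU⟩ := PrimeSpectrum.isTopologicalBasis_basic_opens.exists_subset_of_mem_open hP hU
      refine ⟨a, fun h => ?_, Or.inl haU⟩
      subst h
      exact ha (Ideal.zero_mem _)
  | union s _ t _ hs ht =>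
    obtain ⟨a, ha, hs⟩ := hs
    obtain ⟨b, hb, ht⟩ := ht
    refine ⟨a * b, mul_ne_zero ha hb, ?_⟩
    rw [PrimeSpectrum.basicOpen_mul, TopologicalSpace.Opens.coe_inf]
    rcases hs with hs | hs
    · exact Or.inl (Set.inter_subset_left.trans (hs.trans Set.subset_union_left))
    rcases ht with ht | ht
    · exact Or.inl (Set.inter_subset_right.trans (ht.trans Set.subset_union_right))
    · exact Or.inr (fun P hP h => h.elim (hs hP.1) (ht hP.2))
  | compl s _ hs =>
    obtain ⟨a, ha, hs⟩ := hs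
    exact ⟨a, ha, hs.symm.imp id fun h => h.trans (compl_compl s).ge⟩

/-- The components data of the fibres over a dense open. -/
def HasDatum {X : Scheme.{u}} {T : Type u} [CommRing T] (π : X ⟶ Spec (CommRingCat.of T)) : Prop :=
  ∃ (a : T) (ι : Type u) (_ : Finite ι) (Z : ι → Set X) (R : ι → ι → Prop), a ≠ 0 ∧ (∀ i, IsClosed (Z i)) ∧
    ∀ (k : Type u) [Field k] (γ : Spec (CommRingCat.of k) ⟶ Spec (CommRingCat.of T)),
      (∀ p, γ.base p ∈ PrimeSpectrum.basicOpen a) →
      (∀ i, IsClosed ((pullback.fst π γ).base ⁻¹' Z i) ∧ IsIrreducible ((pullback.fst π γ).base ⁻¹' Z i)) ∧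
      (∀ w : ↥(pullback π γ), ∃ i, w ∈ (pullback.fst π γ).base ⁻¹' Z i) ∧
      (∀ i j, (pullback.fst π γ).base ⁻¹' Z i ⊆ (pullback.fst π γ).base ⁻¹' Z j → i = j) ∧
      ∀ i j, ((pullback.fst π γ).base ⁻¹' Z i ∩ (pullback.fst π γ).base ⁻¹' Z j).Nonempty ↔ R i j

/-- An algebra whose generic components spread out to integral fibres. -/
def IntegralComps (T C : Type u) [CommRing T] [CommRing C] [Algebra T C] : Prop :=
  ∀ (q : Ideal C) [q.IsPrime], q.comap (algebraMap T C) = ⊥ →
    (∀ q' : Ideal C, q'.IsPrime → q' ≤ q → q'.comap (algebraMap T C) = ⊥ → q' = q) →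
    ∃ a : T, a ≠ 0 ∧ ∀ (k : Type u) [Field k] [Algebra T k], algebraMap T k a ≠ 0 →
      NoZeroDivisors (k ⊗[T] (C ⧸ q))

variable {X : Scheme.{u}} {T : Type u} [CommRing T] [IsDomain T] [IsNoetherianRing T]
  (π : X ⟶ Spec (CommRingCat.of T))

/-- The image of a constructible set avoids a dense open, or all geometric fibres over one meet it. -/
theorem exists_dichotomy [LocallyOfFiniteType π] [QuasiCompact π] {S : Set X} (hS : IsConstructible S) :
    ∃ a : T, a ≠ 0 ∧
      ((∀ z : X, π.base z ∈ PrimeSpectrum.basicOpen a → z ∉ S) ∧ (∀ z ∈ S, (π.base z).asIdeal ≠ ⊥) ∨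
      ∀ (k : Type u) [Field k] (γ : Spec (CommRingCat.of k) ⟶ Spec (CommRingCat.of T)),
        (∀ p, γ.base p ∈ PrimeSpectrum.basicOpen a) → ((pullback.fst π γ).base ⁻¹' S).Nonempty) := by
  haveI : IsNoetherianRing (CommRingCat.of T) := ‹IsNoetherianRing T›
  haveI : IsLocallyNoetherian (Spec (CommRingCat.of T)) := inferInstance
  haveI : LocallyOfFinitePresentation π := LocallyOfFinitePresentation.iff_locallyOfFiniteType.2 ‹_›
  obtain ⟨a, ha, h⟩ := exists_basicOpen_of_isConstructible (T := T) (π.isConstructible_image hS)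
  refine ⟨a, ha, ?_⟩
  rcases h with h | h
  · refine Or.inr fun k _ γ hγ => ?_
    obtain ⟨z, hz, hzp⟩ := h (hγ (IsLocalRing.closedPoint k))
    obtain ⟨w, hw⟩ := (Scheme.Pullback.range_fst (f := π) (g := γ)).ge (⟨_, hzp.symm⟩ : z ∈ π.base ⁻¹' Set.range γ.base)
    exact ⟨w, show (pullback.fst π γ).base w ∈ S from hw ▸ hz⟩
  · refine Or.inl ⟨fun z hz hzS => h hz ⟨z, hzS, rfl⟩, fun z hzS hbot => ?_⟩
    refine h (show a ∉ (π.base z).asIdeal from ?_) ⟨z, hzS, rfl⟩
    rw [hbot, Ideal.mem_bot]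
    exact ha

/-- The generic points of the generic fibre. -/
def genPts : Set X := {ζ | ζ ∈ genericPoints X ∧ (π.base ζ).asIdeal = ⊥}

lemma exists_genPt_specializes {z : X} (hz : (π.base z).asIdeal = ⊥) : ∃ ζ ∈ genPts π, ζ ⤳ z := by
  let ζ := genericPoints.ofComponent
    (⟨irreducibleComponent z, irreducibleComponent_mem_irreducibleComponents z⟩ : irreducibleComponents X)
  have hζ : ζ.1 ⤳ z := (genericPoints.isGenericPoint_ofComponent _).specializes mem_irreducibleComponent
  refine ⟨ζ.1, ⟨ζ.2, le_bot_iff.1 ?_⟩, hζ⟩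
  have h := (PrimeSpectrum.le_iff_specializes (π.base ζ.1) (π.base z)).2 (hζ.map π.continuous)
  exact hz ▸ (PrimeSpectrum.asIdeal_le_asIdeal _ _).2 h

theorem hasDatum [LocallyOfFiniteType π] [QuasiCompact π] {n : ℕ} (C : Fin n → Type u) [∀ j, CommRing (C j)]
    [∀ j, Algebra T (C j)] (u : ∀ j, Spec (CommRingCat.of (C j)) ⟶ X) [∀ j, IsOpenImmersion (u j)]
    (hu : ∀ j, u j ≫ π = Spec.map (CommRingCat.ofHom (algebraMap T (C j))))
    (hcov : ∀ x : X, ∃ j, x ∈ Set.range (u j).base) (hC : ∀ j, IntegralComps T (C j)) : HasDatum π := by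
  classical
  haveI : IsNoetherianRing (CommRingCat.of T) := ‹IsNoetherianRing T›
  haveI : IsLocallyNoetherian (Spec (CommRingCat.of T)) := inferInstance
  haveI : IsLocallyNoetherian X := LocallyOfFiniteType.isLocallyNoetherian π
  haveI : CompactSpace X := QuasiCompact.compactSpace_of_compactSpace π
  haveI : IsNoetherian X := ⟨⟩
  haveI : Finite (irreducibleComponents X) := TopologicalSpace.NoetherianSpace.finite_irreducibleComponents.to_subtype
  haveI : Finite (genericPoints X) := Finite.of_equiv _ genericPoints.equiv.symm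
  let ι : Type u := genPts π
  haveI : Finite ι := Finite.of_injective (fun ζ : ι => (⟨ζ.1, ζ.2.1⟩ : genericPoints X))
    fun a b h => Subtype.ext (congrArg (fun t : genericPoints X => t.1) h)
  let Z : ι → Set X := fun ζ => closure {ζ.1}
  -- a nonzero element for each condition
  have hcons : ∀ S : Set X, IsLocallyClosed S → IsConstructible S := fun S hS => by
    obtain ⟨U, V, hU, hV, rfl⟩ := hS
    exact (IsRetrocompact.isConstructible hU (fun _ _ _ => TopologicalSpace.NoetherianSpace.isCompact _)).inter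
      (isConstructible_compl.1 (IsRetrocompact.isConstructible hV.isOpen_compl
        (fun _ _ _ => TopologicalSpace.NoetherianSpace.isCompact _)))
  obtain ⟨a₀, ha₀, hzero⟩ : ∃ a : T, a ≠ 0 ∧ ∀ z : X, π.base z ∈ PrimeSpectrum.basicOpen a → ∃ ζ, z ∈ Z ζ := by
    obtain ⟨a, ha, h | h⟩ := exists_dichotomy π (S := (⋃ ζ, Z ζ)ᶜ)
      (hcons _ (isClosed_iUnion_of_finite fun ζ => isClosed_closure).isOpen_compl.isLocallyClosed)
    · exact ⟨a, ha, fun z hz => Set.mem_iUnion.1 (not_not.1 (h.1 z hz))⟩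
    · exfalso
      let γ : Spec (CommRingCat.of (FractionRing T)) ⟶ Spec (CommRingCat.of T) :=
        Spec.map (CommRingCat.ofHom (algebraMap T (FractionRing T)))
      have hγ : ∀ p, (γ.base p).asIdeal = ⊥ := fun p => le_bot_iff.1 fun t ht => by
        have hp : p.asIdeal = ⊥ := (Ideal.eq_bot_or_top p.asIdeal).resolve_right p.2.ne_top
        have : algebraMap T (FractionRing T) t ∈ p.asIdeal := ht
        rw [hp, Ideal.mem_bot] at this
        exact IsFractionRing.injective T (FractionRing T) (this.trans (map_zero _).symm)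
      obtain ⟨w, hw⟩ := h (FractionRing T) γ fun p => by
        show a ∉ (γ.base p).asIdeal
        rw [hγ, Ideal.mem_bot]; exact ha
      have hπw : (π.base ((pullback.fst π γ).base w)).asIdeal = ⊥ := by
        rw [← Scheme.Hom.comp_apply, pullback.condition, Scheme.Hom.comp_apply]
        exact hγ _
      obtain ⟨ζ, hζ, hζw⟩ := exists_genPt_specializes π hπw
      exact hw (Set.mem_iUnion.2 ⟨⟨ζ, hζ⟩, hζw.mem_closure⟩)
  -- nonempty fibres of locally closed sets through generic points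
  have hne : ∀ S : Set X, IsLocallyClosed S → ∃ a : T, a ≠ 0 ∧ ((∃ z ∈ S, (π.base z).asIdeal = ⊥) →
      ∀ (k : Type u) [Field k] (γ : Spec (CommRingCat.of k) ⟶ Spec (CommRingCat.of T)),
        (∀ p, γ.base p ∈ PrimeSpectrum.basicOpen a) → ((pullback.fst π γ).base ⁻¹' S).Nonempty) ∧
      ((∀ z ∈ S, (π.base z).asIdeal ≠ ⊥) → ∀ z : X, π.base z ∈ PrimeSpectrum.basicOpen a → z ∉ S) := fun S hS => by
    obtain ⟨a, ha, h | h⟩ := exists_dichotomy π (hcons S hS)
    · exact ⟨a, ha, fun ⟨z, hz, hz'⟩ => absurd hz' (h.2 z hz), fun _ => h.1⟩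
    · refine ⟨a, ha, fun _ => h, fun hS' z hz hzS => ?_⟩
      let γ : Spec (CommRingCat.of (FractionRing T)) ⟶ Spec (CommRingCat.of T) :=
        Spec.map (CommRingCat.ofHom (algebraMap T (FractionRing T)))
      have hγ : ∀ p, (γ.base p).asIdeal = ⊥ := fun p => le_bot_iff.1 fun t ht => by
        have hp : p.asIdeal = ⊥ := (Ideal.eq_bot_or_top p.asIdeal).resolve_right p.2.ne_top
        have : algebraMap T (FractionRing T) t ∈ p.asIdeal := ht
        rw [hp, Ideal.mem_bot] at this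
        exact IsFractionRing.injective T (FractionRing T) (this.trans (map_zero _).symm)
      obtain ⟨w, hw⟩ := h (FractionRing T) γ fun p => by
        show a ∉ (γ.base p).asIdeal
        rw [hγ, Ideal.mem_bot]; exact ha
      refine hS' _ hw ?_
      rw [← Scheme.Hom.comp_apply, pullback.condition, Scheme.Hom.comp_apply]
      exact hγ _
  choose b hb hb1 hb2 using hne
  -- the integral pieces
  have hpiece : ∀ (ζ : ι) (j : Fin n), ∃ a : T, a ≠ 0 ∧
      ∀ (k : Type u) [Field k] (γ : Spec (CommRingCat.of k) ⟶ Spec (CommRingCat.of T)),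
        (∀ p, γ.base p ∈ PrimeSpectrum.basicOpen a) →
          IsPreirreducible ((pullback.fst π γ).base ⁻¹' (Z ζ ∩ Set.range (u j).base)) := by
    intro ζ j
    by_cases hζj : ζ.1 ∈ Set.range (u j).base
    · obtain ⟨P, hP⟩ := hζj
      have hπP : ∀ Q : PrimeSpectrum (C j), (π.base ((u j).base Q)).asIdeal = Q.asIdeal.comap (algebraMap T (C j)) :=
        fun Q => by
          rw [← Scheme.Hom.comp_apply, hu]; rfl
      obtain ⟨a, ha, hdom⟩ := hC j P.asIdeal (by rw [← hπP, hP]; exact ζ.2.2) fun q' hq' hle hbot => by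
        have h1 : (u j).base ⟨q', hq'⟩ ⤳ ζ.1 :=
          hP ▸ ((PrimeSpectrum.le_iff_specializes ⟨q', hq'⟩ P).1 hle).map (u j).continuous
        have h2 : ζ.1 ⤳ (u j).base ⟨q', hq'⟩ :=
          GeomIrr.mem_genericPoints_iff.1 ζ.2.1 _ h1
        have h3 : (u j).base ⟨q', hq'⟩ = (u j).base P := (h1.antisymm h2).eq.trans hP.symm
        exact congrArg PrimeSpectrum.asIdeal ((u j).isOpenEmbedding.injective h3)
      refine ⟨a, ha, fun k _ γ hγ => ?_⟩
      obtain ⟨φ, rfl⟩ := Spec.map_surjective γ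
      letI : Algebra T k := φ.hom.toAlgebra
      have hak : algebraMap T k a ≠ 0 := fun h => hγ (IsLocalRing.closedPoint k)
        (show φ.hom a ∈ (IsLocalRing.maximalIdeal k) from h.symm ▸ Ideal.zero_mem _)
      haveI := hdom k hak
      let c : Spec (CommRingCat.of (C j ⧸ P.asIdeal)) ⟶ X :=
        Spec.map (CommRingCat.ofHom (Ideal.Quotient.mk P.asIdeal)) ≫ u j
      have hc : c ≫ π = Spec.map (CommRingCat.ofHom (algebraMap T (C j ⧸ P.asIdeal))) := by
        rw [Category.assoc, hu, ← Spec.map_comp]; rfl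
      have hrange : Set.range c.base = Z ζ ∩ Set.range (u j).base := by
        have h1 : Set.range c.base = (u j).base '' PrimeSpectrum.zeroLocus P.asIdeal := by
          rw [show (c.base : _ → X) = (u j).base ∘ PrimeSpectrum.comap (Ideal.Quotient.mk P.asIdeal) from rfl,
            Set.range_comp, range_comap_of_surjective _ _ Ideal.Quotient.mk_surjective,
            Ideal.mk_ker]
        rw [h1, ← PrimeSpectrum.closure_singleton]
        ext z
        constructor
        · rintro ⟨Q, hQ, rfl⟩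
          refine ⟨?_, Q, rfl⟩
          show _ ∈ closure {ζ.1}
          rw [← hP]
          exact ((specializes_iff_mem_closure.2 hQ).map (u j).continuous).mem_closure
        · rintro ⟨hz, Q, rfl⟩
          refine ⟨Q, ?_, rfl⟩
          refine ((u j).isOpenEmbedding.isInducing.specializes_iff.1 (?_ : (u j).base P ⤳ (u j).base Q)).mem_closure
          rw [hP]
          exact specializes_iff_mem_closure.2 hz
      let m := pullback.map (Spec.map (CommRingCat.ofHom (algebraMap T (C j ⧸ P.asIdeal)))) (Spec.map φ) π (Spec.map φ)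
        c (𝟙 _) (𝟙 _) (by rw [Category.comp_id, hc]) (by rw [Category.comp_id, Category.id_comp])
      have hm : Set.range m.base = (pullback.fst π (Spec.map φ)).base ⁻¹' (Z ζ ∩ Set.range (u j).base) := by
        rw [Scheme.Pullback.range_map, hrange]
        simp
      rw [← hm, ← Set.image_univ]
      let e := pullbackSymmetry (Spec.map (CommRingCat.ofHom (algebraMap T (C j ⧸ P.asIdeal)))) (Spec.map φ) ≪≫
        pullbackSpecIso T k (C j ⧸ P.asIdeal)
      refine IsPreirreducible.image ?_ _ m.continuous.continuousOn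
      haveI : PreirreducibleSpace ↥(Spec (CommRingCat.of (k ⊗[T] (C j ⧸ P.asIdeal)))) := by
        rcases subsingleton_or_nontrivial (k ⊗[T] (C j ⧸ P.asIdeal)) with h | h
        · haveI : IsEmpty (PrimeSpectrum (k ⊗[T] (C j ⧸ P.asIdeal))) := inferInstance
          exact ⟨fun U V _ _ ⟨z, _⟩ => (IsEmpty.false (show PrimeSpectrum (k ⊗[T] (C j ⧸ P.asIdeal)) from z)).elim⟩
        · haveI : IsDomain (k ⊗[T] (C j ⧸ P.asIdeal)) := NoZeroDivisors.to_isDomain _
          exact inferInstanceAs (PreirreducibleSpace (PrimeSpectrum (k ⊗[T] (C j ⧸ P.asIdeal))))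
      have := (PreirreducibleSpace.isPreirreducible_univ (X := Spec (CommRingCat.of (k ⊗[T] (C j ⧸ P.asIdeal))))).image
        e.inv.base e.inv.continuous.continuousOn
      rwa [Set.image_univ, Set.range_eq_univ.2 e.inv.surjective] at this
    · refine ⟨1, one_ne_zero, fun k _ γ _ => ?_⟩
      have : Z ζ ∩ Set.range (u j).base = ∅ := Set.eq_empty_of_forall_notMem fun z hz =>
        hζj ((specializes_iff_mem_closure.2 hz.1).mem_open (u j).isOpenEmbedding.isOpen_range hz.2)
      rw [this, Set.preimage_empty]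
      exact isPreirreducible_empty
  choose c hc hc' using hpiece
  -- the conditions
  have hlc : ∀ (ζ : ι) (j l : Fin n), IsLocallyClosed (Z ζ ∩ (Set.range (u j).base ∩ Set.range (u l).base)) :=
    fun ζ j l => isClosed_closure.isLocallyClosed.inter
      ((u j).isOpenEmbedding.isOpen_range.inter (u l).isOpenEmbedding.isOpen_range).isLocallyClosed
  have hlc' : ∀ i j : ι, IsLocallyClosed (Z i ∩ (Z j)ᶜ) := fun i j =>
    isClosed_closure.isLocallyClosed.inter isClosed_closure.isOpen_compl.isLocallyClosed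
  have hlc'' : ∀ i j : ι, IsLocallyClosed (Z i ∩ Z j) := fun i j =>
    (isClosed_closure.inter isClosed_closure).isLocallyClosed
  haveI := Fintype.ofFinite ι
  let A₁ : T := (∏ p : ι × Fin n, c p.1 p.2) * ∏ p : ι × Fin n × Fin n, b _ (hlc p.1 p.2.1 p.2.2)
  let A₂ : T := (∏ p : ι × ι, b _ (hlc' p.1 p.2)) * ∏ p : ι × ι, b _ (hlc'' p.1 p.2)
  refine ⟨a₀ * (A₁ * A₂), ι, inferInstance, Z, fun i j => ∃ z ∈ Z i ∩ Z j, (π.base z).asIdeal = ⊥,
    mul_ne_zero ha₀ (mul_ne_zero (mul_ne_zero (Finset.prod_ne_zero_iff.2 fun p _ => hc _ _)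
      (Finset.prod_ne_zero_iff.2 fun p _ => hb _ _)) (mul_ne_zero (Finset.prod_ne_zero_iff.2 fun p _ => hb _ _)
      (Finset.prod_ne_zero_iff.2 fun p _ => hb _ _))), fun _ => isClosed_closure, fun k _ γ hγ => ?_⟩
  have hdvd : ∀ a : T, a ∣ a₀ * (A₁ * A₂) → ∀ p, γ.base p ∈ PrimeSpectrum.basicOpen a := fun a ⟨d, hd⟩ p h =>
    hγ p (hd ▸ Ideal.mul_mem_right d _ h)
  have d₀ : a₀ ∣ a₀ * (A₁ * A₂) := dvd_mul_right _ _
  have d₁ : ∀ ζ j, c ζ j ∣ a₀ * (A₁ * A₂) := fun ζ j => dvd_mul_of_dvd_right (dvd_mul_of_dvd_left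
    (dvd_mul_of_dvd_left (Finset.dvd_prod_of_mem (fun p : ι × Fin n => c p.1 p.2) (Finset.mem_univ (ζ, j))) _) _) _
  have d₂ : ∀ ζ j l, b _ (hlc ζ j l) ∣ a₀ * (A₁ * A₂) := fun ζ j l => dvd_mul_of_dvd_right (dvd_mul_of_dvd_left
    (dvd_mul_of_dvd_right (Finset.dvd_prod_of_mem (fun p : ι × Fin n × Fin n => b _ (hlc p.1 p.2.1 p.2.2))
      (Finset.mem_univ (ζ, j, l))) _) _) _
  have d₃ : ∀ i j, b _ (hlc' i j) ∣ a₀ * (A₁ * A₂) := fun i j => dvd_mul_of_dvd_right (dvd_mul_of_dvd_right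
    (dvd_mul_of_dvd_left (Finset.dvd_prod_of_mem (fun p : ι × ι => b _ (hlc' p.1 p.2)) (Finset.mem_univ (i, j))) _) _) _
  have d₄ : ∀ i j, b _ (hlc'' i j) ∣ a₀ * (A₁ * A₂) := fun i j => dvd_mul_of_dvd_right (dvd_mul_of_dvd_right
    (dvd_mul_of_dvd_right (Finset.dvd_prod_of_mem (fun p : ι × ι => b _ (hlc'' p.1 p.2)) (Finset.mem_univ (i, j))) _) _) _
  let j₀ := (pullback.fst π γ).base
  have hfib : ∀ w, π.base (j₀ w) = γ.base ((pullback.snd π γ).base w) := fun w =>
    congr($(pullback.condition (f := π) (g := γ)) w)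
  have hmeet : ∀ (ζ : ι) (j l : Fin n), ζ.1 ∈ Set.range (u j).base → ζ.1 ∈ Set.range (u l).base →
      (j₀ ⁻¹' (Z ζ ∩ (Set.range (u j).base ∩ Set.range (u l).base))).Nonempty := fun ζ j l hj hl =>
    hb1 _ (hlc ζ j l) ⟨ζ.1, ⟨subset_closure rfl, hj, hl⟩, ζ.2.2⟩ k γ (hdvd _ (d₂ ζ j l))
  refine ⟨fun ζ => ⟨isClosed_closure.preimage (pullback.fst π γ).continuous, ?_, ?_⟩, fun w => ?_,
    fun i j hij => ?_, fun i j => ⟨fun ⟨w, hw⟩ => ?_, fun hR => ?_⟩⟩
  · obtain ⟨j, hj⟩ := hcov ζ.1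
    exact (hmeet ζ j j hj hj).mono fun w hw => hw.1
  · intro U V hU hV ⟨v₁, hv₁, hv₁U⟩ ⟨v₂, hv₂, hv₂V⟩
    obtain ⟨j, hj⟩ := hcov (j₀ v₁)
    obtain ⟨l, hl⟩ := hcov (j₀ v₂)
    have hjζ : ζ.1 ∈ Set.range (u j).base :=
      (specializes_iff_mem_closure.2 hv₁).mem_open (u j).isOpenEmbedding.isOpen_range hj
    have hlζ : ζ.1 ∈ Set.range (u l).base :=
      (specializes_iff_mem_closure.2 hv₂).mem_open (u l).isOpenEmbedding.isOpen_range hl
    obtain ⟨v, hv⟩ := hmeet ζ j l hjζ hlζ
    have hOl : IsOpen (j₀ ⁻¹' Set.range (u l).base) :=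
      (u l).isOpenEmbedding.isOpen_range.preimage (pullback.fst π γ).continuous
    obtain ⟨v', hv', hv'U, hv'l⟩ := hc' ζ j k γ (hdvd _ (d₁ ζ j)) U (j₀ ⁻¹' Set.range (u l).base) hU hOl
      ⟨v₁, ⟨hv₁, hj⟩, hv₁U⟩ ⟨v, ⟨hv.1, hv.2.1⟩, hv.2.2⟩
    obtain ⟨v'', hv'', h1, h2⟩ := hc' ζ l k γ (hdvd _ (d₁ ζ l)) U V hU hV ⟨v', ⟨hv'.1, hv'l⟩, hv'U⟩
      ⟨v₂, ⟨hv₂, hl⟩, hv₂V⟩
    exact ⟨v'', hv''.1, h1, h2⟩
  · obtain ⟨ζ, hζ⟩ := hzero (j₀ w) ((hfib w).symm ▸ hdvd _ d₀ _)
    exact ⟨ζ, hζ⟩
  · by_contra hne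
    refine Set.not_nonempty_empty (α := ↥(pullback π γ)) ?_
    have hij' : ¬ i.1 ∈ Z j := fun h => by
      have h1 : j.1 ⤳ i.1 := specializes_iff_mem_closure.2 h
      exact hne (Subtype.ext ((GeomIrr.mem_genericPoints_iff.1 i.2.1 _ h1).antisymm h1).eq)
    obtain ⟨w, hw⟩ := hb1 _ (hlc' i j) ⟨i.1, ⟨subset_closure rfl, hij'⟩, i.2.2⟩ k γ (hdvd _ (d₃ i j))
    exact absurd (hij hw.1) hw.2
  · by_contra hR
    push Not at hR
    exact hb2 _ (hlc'' i j) hR _ ((hfib w).symm ▸ hdvd _ (d₄ i j) _) hw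
  · exact hb1 _ (hlc'' i j) hR k γ (hdvd _ (d₄ i j))

end Groth.Agent.GeomComp
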